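import Groth.Agent.FEtLib.Points
import Groth.Agent.QuotLib.EtaleQuot
import Groth.Agent.QuotLib.Exists
import Groth.Agent.QuotLib.Glue
import Groth.Agent.EtDescent.Scheme

/-! Quotients of covers, characterised on geometric points. -/

set_option autoImplicit false
universe u
open CategoryTheory CategoryTheory.Limits AlgebraicGeometry MorphismProperty

noncomputable section

namespace Groth.Agent.FEtLib

variable {X : Scheme.{u}} {Y Z T Q : FEt.Cat X}

/-- A morphism surjective on geometric points. -/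
def IsSurjOnPoints (q : Y ⟶ Q) : Prop :=
  ∀ (K : Type u) [Field K] [IsAlgClosed K] (ξ : Spec (CommRingCat.of K) ⟶ X), Function.Surjective (pmap (ξ := ξ) q)

theorem IsSurjOnPoints.epi {q : Y ⟶ Q} (hq : IsSurjOnPoints q) : Epi q := ⟨fun {W} f g h => hom_ext fun K _ _ ξ a => by
  obtain ⟨b, rfl⟩ := hq K ξ a
  rw [← pmap_comp, ← pmap_comp, h]⟩

theorem isSurjOnPoints_toImage (φ : Y ⟶ Z) : IsSurjOnPoints (toImage φ) := fun _ _ _ _ => pmap_surjective _

/-- Descending along a morphism surjective on geometric points. -/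
theorem exists_desc {q : Y ⟶ Q} (hq : IsSurjOnPoints q) (h : Y ⟶ T)
    (hh : ∀ (K : Type u) [Field K] [IsAlgClosed K] (ξ : Spec (CommRingCat.of K) ⟶ X) (a b : Fib ξ Y),
      pmap q a = pmap q b → pmap h a = pmap h b) : ∃ d : Q ⟶ T, q ≫ d = h := by
  let m : Y ⟶ Q ⨯ T := prod.lift q h
  have e1 : (toImage m ≫ imageι m) ≫ prod.fst = q := by rw [toImage_ι]; exact prod.lift_fst _ _
  have e2 : (toImage m ≫ imageι m) ≫ prod.snd = h := by rw [toImage_ι]; exact prod.lift_snd _ _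
  haveI : IsIso (imageι m ≫ prod.fst) := isIso_of_pmap_bijective _ fun K _ _ ξ => by
    refine ⟨fun c c' hc => ?_, fun t => ?_⟩
    · obtain ⟨a, rfl⟩ := isSurjOnPoints_toImage m K ξ c
      obtain ⟨b, rfl⟩ := isSurjOnPoints_toImage m K ξ c'
      rw [← pmap_comp, ← pmap_comp, ← Category.assoc, e1] at hc
      refine pmap_injective (imageι m) (fib_prod_ext ?_ ?_)
      · rw [← pmap_comp, ← pmap_comp, ← pmap_comp, ← pmap_comp, ← Category.assoc, e1]; exact hc
      · rw [← pmap_comp, ← pmap_comp, ← pmap_comp, ← pmap_comp, ← Category.assoc, e2]; exact hh K ξ a b hc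
    · obtain ⟨a, rfl⟩ := hq K ξ t
      exact ⟨pmap (toImage m) a, by rw [← pmap_comp, ← Category.assoc, e1]⟩
  refine ⟨inv (imageι m ≫ prod.fst) ≫ imageι m ≫ prod.snd, ?_⟩
  conv_lhs => rw [← e1]
  simp only [Category.assoc]
  rw [← Category.assoc (imageι m), IsIso.hom_inv_id_assoc]
  rw [← Category.assoc, e2]

variable {G : Type u} [Group G]

/-- A quotient by a group, on geometric points. -/
structure IsGeomQuot (ρ : G →* Aut Y) (q : Y ⟶ Q) : Prop where
  inv : ∀ g : G, (ρ g).hom ≫ q = q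
  surj : IsSurjOnPoints q
  trans : ∀ (K : Type u) [Field K] [IsAlgClosed K] (ξ : Spec (CommRingCat.of K) ⟶ X) (a b : Fib ξ Y),
    pmap q a = pmap q b → ∃ g : G, pmap (ρ g).hom a = b

theorem IsGeomQuot.exists_desc {ρ : G →* Aut Y} {q : Y ⟶ Q} (hq : IsGeomQuot ρ q) (h : Y ⟶ T)
    (hh : ∀ g : G, (ρ g).hom ≫ h = h) : ∃ d : Q ⟶ T, q ≫ d = h :=
  FEtLib.exists_desc hq.surj h fun K _ _ ξ a b hab => by
    obtain ⟨g, rfl⟩ := hq.trans K ξ a b hab
    rw [← pmap_comp, hh]

variable [Finite G]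

/-- Quotients of covers by finite groups exist. -/
theorem exists_isGeomQuot (ρ : G →* Aut Y) : ∃ (Q : FEt.Cat X) (q : Y ⟶ Q), IsGeomQuot ρ q := by
  let F := Over.forget FEt.prop.{u} ⊤ X ⋙ CategoryTheory.Over.forget X
  let ρs : G →* Aut Y.left := (F.mapAut Y).comp ρ
  have hρs : ∀ g, (ρs g).hom ≫ Y.hom = Y.hom := fun g => Over.w (ρ g).hom
  have horb : ∀ y : Y.left, ∃ U : Y.left.Opens, IsAffineOpen U ∧ ∀ g : G, (ρs g).hom.base y ∈ U := fun y => by
    obtain ⟨_, ⟨V, hV, rfl⟩, hy, -⟩ :=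
      X.isBasis_affineOpens.exists_subset_of_mem_open (Set.mem_univ (Y.hom y)) isOpen_univ
    refine ⟨Y.hom ⁻¹ᵁ V, hV.preimage Y.hom, fun g => ?_⟩
    show Y.hom ((ρs g).hom y) ∈ V
    rw [← Scheme.Hom.comp_apply, hρs]
    exact hy
  obtain ⟨Q, p, hp⟩ := QuotLib.exists_isQuot ρs horb
  let r : Q ⟶ X := QuotLib.desc hp Y.hom hρs
  have hr : p ≫ r = Y.hom := QuotLib.comp_desc hp Y.hom hρs
  haveI : Etale p := QuotLib.etale_of_etale hp Y.hom hρs
  haveI : Surjective p := ⟨QuotLib.surjective hp⟩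
  haveI : IsFinite (p ≫ r) := hr ▸ inferInstance
  haveI : Etale (p ≫ r) := hr ▸ inferInstance
  haveI : Etale r := Groth.Agent.EtDescent.etale_of_precomp p r
  haveI : IsAffineHom r := (QuotLib.isAffineHom_iff hp r).1 inferInstance
  haveI : UniversallyClosed r := UniversallyClosed.of_comp_surjective p r
  haveI : IsIntegralHom r := IsIntegralHom.iff_universallyClosed_and_isAffineHom.2 ⟨inferInstance, inferInstance⟩
  haveI : IsFinite r := (IsFinite.iff_isIntegralHom_and_locallyOfFiniteType r).2 ⟨inferInstance, inferInstance⟩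
  let Q' : FEt.Cat X := Over.mk ⊤ r ⟨inferInstance, inferInstance⟩
  let q : Y ⟶ Q' := Over.homMk p hr trivial
  haveI : Surjective q.left := ‹Surjective p›
  refine ⟨Q', q, ⟨fun g => ?_, fun _ _ _ _ => pmap_surjective q, fun K _ _ ξ a b hab => ?_⟩⟩
  · ext
    exact hp.inv g
  · obtain ⟨g, hg⟩ := QuotLib.exists_comp_eq_point hp a.left b.left (congrArg (fun c : Fib ξ Q' => c.left) hab)
    exact ⟨g, fib_ext hg⟩

end Groth.Agent.FEtLib
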