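import Groth.Agent.FEtLib.Restrict
import Groth.Agent.Unibranch.NormalStalk
import Groth.Agent.Unibranch.Components
import Groth.Prelude.Def_Pi1

/-! Finite étale covers of normal integral schemes. -/

set_option autoImplicit false
universe u
open CategoryTheory CategoryTheory.Limits AlgebraicGeometry Topology

noncomputable section

namespace Groth.Agent.FEtLib

variable {X : Scheme.{u}} [IsIntegral X]

theorem normal_left (hX : Pi1.IsNormalScheme X) (W : FEt.Cat X) : Pi1.IsNormalScheme W.left := fun w => by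
  haveI : Etale W.hom := W.prop.2
  exact Groth.Agent.Unibranch.normal_stalk_of_etale W.hom w (hX _)

theorem exists_specializes_over_genericPoint (W : FEt.Cat X) (w : W.left) :
    ∃ η : W.left, η ⤳ w ∧ W.hom η = genericPoint X := by
  let f : W.left ⟶ X := W.hom
  haveI : Etale f := W.prop.2
  obtain ⟨η, h, he⟩ := Flat.generalizingMap f (genericPoint_specializes (f w))
  exact ⟨η, h, he⟩

theorem unique_over_genericPoint (hX : Pi1.IsNormalScheme X) (W : FEt.Cat X) {w η₁ η₂ : W.left}
    (h₁ : η₁ ⤳ w) (e₁ : W.hom η₁ = genericPoint X) (h₂ : η₂ ⤳ w) (e₂ : W.hom η₂ = genericPoint X) :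
    η₁ = η₂ := by
  let f : W.left ⟶ X := W.hom
  haveI : Etale f := W.prop.2
  haveI : LocallyQuasiFinite f :=
    Groth.Agent.Unibranch.locallyQuasiFinite_of_unramified f
  haveI := (normal_left hX W w).1
  have hmax : ∀ η : W.left, η ⤳ w → W.hom η = genericPoint X →
      η = (W.left.fromSpecStalk w) (⟨⊥, Ideal.isPrime_bot⟩ : PrimeSpectrum _) := by
    intro η h e
    have hr : η ∈ Set.range (W.left.fromSpecStalk w) := by
      rw [Scheme.range_fromSpecStalk]; exact h
    obtain ⟨p, rfl⟩ := hr
    refine (Groth.Agent.Unibranch.max_of_map_eq_genericPoint f _ e _ ?_).symm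
    refine Specializes.map ?_ (W.left.fromSpecStalk w).continuous
    exact (PrimeSpectrum.le_iff_specializes _ _).1 bot_le
  rw [hmax η₁ h₁ e₁, hmax η₂ h₂ e₂]

theorem finite_genericFibre (W : FEt.Cat X) : (W.hom ⁻¹' {genericPoint X}).Finite := by
  haveI : IsFinite W.hom := W.prop.1
  exact W.hom.finite_preimage (Set.finite_singleton _)

/-- The union of the components through a set of points over the generic point is clopen. -/
theorem isClopen_closures (hX : Pi1.IsNormalScheme X) (W : FEt.Cat X) (S : Set W.left) :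
    IsClopen {w : W.left | ∃ η ∈ S, η ⤳ w ∧ W.hom η = genericPoint X} := by
  have hc : ∀ S : Set W.left, IsClosed {w : W.left | ∃ η ∈ S, η ⤳ w ∧ W.hom η = genericPoint X} := by
    intro S
    have : {w : W.left | ∃ η ∈ S, η ⤳ w ∧ W.hom η = genericPoint X} =
        ⋃ η ∈ S ∩ W.hom ⁻¹' {genericPoint X}, closure {η} := by
      ext w
      simp only [Set.mem_setOf_eq, Set.mem_iUnion, exists_prop, specializes_iff_mem_closure,
        Set.mem_inter_iff, Set.mem_preimage, Set.mem_singleton_iff]
      exact ⟨fun ⟨η, hS, h, e⟩ => ⟨η, ⟨hS, e⟩, h⟩, fun ⟨η, ⟨hS, e⟩, h⟩ => ⟨η, hS, h, e⟩⟩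
    rw [this]
    exact ((finite_genericFibre W).inter_of_right S).isClosed_biUnion fun _ _ => isClosed_closure
  refine ⟨hc S, isClosed_compl_iff.1 ?_⟩
  have : {w : W.left | ∃ η ∈ S, η ⤳ w ∧ W.hom η = genericPoint X}ᶜ =
      {w : W.left | ∃ η ∈ Sᶜ, η ⤳ w ∧ W.hom η = genericPoint X} := by
    ext w
    refine ⟨fun h => ?_, ?_⟩
    · obtain ⟨η, hη, e⟩ := exists_specializes_over_genericPoint W w
      exact ⟨η, fun hS => h ⟨η, hS, hη, e⟩, hη, e⟩
    · rintro ⟨η, hS, hη, e⟩ ⟨η', hS', hη', e'⟩
      exact hS (unique_over_genericPoint hX W hη e hη' e' ▸ hS')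
  rw [this]
  exact hc Sᶜ

theorem isIntegral_of_connected (hX : Pi1.IsNormalScheme X) (W : FEt.Cat X) [ConnectedSpace W.left] :
    IsIntegral W.left := by
  haveI : ∀ w : W.left, _root_.IsReduced (W.left.presheaf.stalk w) := fun w => by
    haveI := (normal_left hX W w).1
    infer_instance
  haveI := isReduced_of_isReduced_stalk W.left
  obtain ⟨w₀⟩ := (inferInstance : Nonempty W.left)
  obtain ⟨η, hη, e⟩ := exists_specializes_over_genericPoint W w₀
  have hu := (isClopen_closures hX W {η}).eq_univ ⟨η, η, rfl, specializes_rfl, e⟩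
  haveI : IrreducibleSpace W.left := by
    refine (irreducibleSpace_def _).mpr ?_
    have : (Set.univ : Set W.left) = closure {η} := by
      refine Set.eq_univ_of_forall (fun w => ?_) |>.symm
      have hw : w ∈ (Set.univ : Set W.left) := trivial
      rw [← hu] at hw
      obtain ⟨η', rfl, h, -⟩ := hw
      exact h.mem_closure
    rw [Set.top_eq_univ, this]
    exact isIrreducible_singleton.closure
  exact isIntegral_of_irreducibleSpace_of_isReduced W.left

variable {X' : Scheme.{u}} (r : X' ⟶ X)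

theorem meetsClopens_of_genericPoint (hg : ∃ x', r x' = genericPoint X) : MeetsClopens r :=
  fun U hU ⟨x, hx⟩ => by
    obtain ⟨x', hx'⟩ := hg
    exact ⟨x', hx' ▸ (genericPoint_specializes x).mem_open hU.2 hx⟩

theorem mem_range_bcFst {W : FEt.Cat X} {η : W.left} (h : W.hom η ∈ Set.range r) :
    η ∈ Set.range (bcFst r W) := by
  have h1 := Scheme.Pullback.range_fst W.hom r
  show η ∈ Set.range (pullback.fst W.hom r)
  rw [h1]
  exact h

theorem clopensDescend_of_preimmersion (hX : Pi1.IsNormalScheme X) [IsPreimmersion r]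
    (hg : ∃ x', r x' = genericPoint X) : ClopensDescend r := fun W V hV => by
  haveI : IsPreimmersion (bcFst r W) :=
    MorphismProperty.pullback_fst (P := @IsPreimmersion) _ _ inferInstance
  refine ⟨_, isClopen_closures hX W ((bcFst r W) '' V), ?_⟩
  ext y
  have hind : ∀ η', (bcFst r W) η' ⤳ (bcFst r W) y → (η' ∈ V ↔ y ∈ V) := fun η' h => by
    have h' : η' ⤳ y := (bcFst r W).isEmbedding.toIsInducing.specializes_iff.1 h
    exact ⟨fun hm => h'.mem_closed hV.1 hm, fun hm => h'.mem_open hV.2 hm⟩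
  refine ⟨?_, fun hy => ?_⟩
  · rintro ⟨_, ⟨η', hη', rfl⟩, h, -⟩
    exact (hind η' h).1 hη'
  · obtain ⟨η, hη, e⟩ := exists_specializes_over_genericPoint W ((bcFst r W) y)
    obtain ⟨η', rfl⟩ := mem_range_bcFst r (W := W) (η := η) (e ▸ hg)
    exact ⟨_, ⟨η', (hind η' hη).2 hy, rfl⟩, hη, e⟩

theorem fullyFaithful_of_preimmersion (hX : Pi1.IsNormalScheme X) [IsPreimmersion r]
    (hg : ∃ x', r x' = genericPoint X) : (FEt.restrict r).Full ∧ (FEt.restrict r).Faithful :=
  ⟨full r (meetsClopens_of_genericPoint r hg) (clopensDescend_of_preimmersion r hX hg),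
    faithful r (meetsClopens_of_genericPoint r hg)⟩

end Groth.Agent.FEtLib
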