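import Groth.Agent.FEtLib.Galois
import Groth.Agent.UnivHomeo.Basic

/-! Criteria for base change of covers to be faithful or full. -/

set_option autoImplicit false
universe u
open CategoryTheory CategoryTheory.Limits AlgebraicGeometry MorphismProperty

noncomputable section

namespace Groth.Agent.FEtLib

variable {X X' : Scheme.{u}} (r : X' ⟶ X) {Y Z : FEt.Cat X}

/-- The base change meets every nonempty clopen of the base. -/
def MeetsClopens : Prop := ∀ U : Set X, IsClopen U → U.Nonempty → ∃ x', r x' ∈ U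

theorem meetsClopens_of_denseRange (h : DenseRange r.base) : MeetsClopens r := fun U hU hne => by
  obtain ⟨_, hmem, x', rfl⟩ := h.inter_open_nonempty U hU.2 hne
  exact ⟨x', hmem⟩

theorem meetsClopens_of_components (h : ∀ x : X, ∃ x', r x' ∈ connectedComponent x) : MeetsClopens r :=
  fun U hU ⟨x, hx⟩ => by
    obtain ⟨x', hx'⟩ := h x
    exact ⟨x', hU.connectedComponent_subset hx hx'⟩

section

variable {K L : Type u} [Field K] [IsAlgClosed K] [Field L] [IsAlgClosed L] {ξ : Spec (CommRingCat.of K) ⟶ X}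
  {η : Spec (CommRingCat.of L) ⟶ X}

/-- Fibres over a common stratum have equally many points. -/
theorem pmap_bijective_of_mem (φ : Y ⟶ Z) (hY : ∀ n, base η ∈ stratum Y n → base ξ ∈ stratum Y n)
    (hZ : ∀ n, base η ∈ stratum Z n → base ξ ∈ stratum Z n)
    (hI : ∀ n, base η ∈ stratum (image φ) n → base ξ ∈ stratum (image φ) n)
    (h : Function.Bijective (pmap (ξ := ξ) φ)) : Function.Bijective (pmap (ξ := η) φ) := by
  haveI := finite_fib η Y
  haveI := finite_fib η Z
  have hc : ∀ W : FEt.Cat X, (∀ n, base η ∈ stratum W n → base ξ ∈ stratum W n) →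
      Nat.card (Fib η W) = Nat.card (Fib ξ W) := fun W hW =>
    (mem_stratum_iff.1 (hW _ (mem_stratum_iff.2 rfl))).symm
  have hι : Function.Bijective (pmap (ξ := ξ) (imageι φ)) := ⟨pmap_injective _, fun b => by
    obtain ⟨a, rfl⟩ := h.2 b
    exact ⟨pmap (toImage φ) a, by rw [← pmap_comp, toImage_ι]⟩⟩
  have hι' : Function.Bijective (pmap (ξ := η) (imageι φ)) :=
    (Nat.bijective_iff_injective_and_card _).2 ⟨pmap_injective _, by
      rw [hc _ hI, hc _ hZ, Nat.card_eq_of_bijective _ hι]⟩
  refine (Nat.bijective_iff_surjective_and_card _).2 ⟨fun b => ?_, by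
    rw [hc _ hY, hc _ hZ, Nat.card_eq_of_bijective _ h]⟩
  obtain ⟨c, rfl⟩ := hι'.2 b
  obtain ⟨a, rfl⟩ := isSurjOnPoints_toImage φ L η c
  exact ⟨a, by rw [← pmap_comp, toImage_ι]⟩

end

/-- Isomorphisms may be detected after a base change meeting every clopen. -/
theorem isIso_of_bijective_above (hr : MeetsClopens r) (φ : Y ⟶ Z)
    (h : ∀ (K : Type u) [Field K] [IsAlgClosed K] (ξ : Spec (CommRingCat.of K) ⟶ X'),
      Function.Bijective (pmap (ξ := ξ ≫ r) φ)) : IsIso φ :=
  isIso_of_pmap_bijective φ fun L _ _ η => by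
    obtain ⟨n, hn⟩ := exists_stratum Y (base η)
    obtain ⟨m, hm⟩ := exists_stratum Z (base η)
    obtain ⟨k, hk⟩ := exists_stratum (image φ) (base η)
    have c1 : IsClopen (stratum Y n : Set X) := ⟨isClosed_stratum Y n, (stratum Y n).2⟩
    have c2 : IsClopen (stratum Z m : Set X) := ⟨isClosed_stratum Z m, (stratum Z m).2⟩
    have c3 : IsClopen (stratum (image φ) k : Set X) := ⟨isClosed_stratum (image φ) k, (stratum (image φ) k).2⟩
    obtain ⟨x', ⟨hx, hx₂⟩, hx₃⟩ := hr _ ((c1.inter c2).inter c3) ⟨base η, ⟨hn, hm⟩, hk⟩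
    obtain ⟨K, _, _, ξ, hξ⟩ := exists_base_point x'
    have hb : base (ξ ≫ r) = r x' := by rw [← hξ]; exact Scheme.Hom.comp_apply ξ r _
    refine pmap_bijective_of_mem φ (fun p hp => ?_) (fun p hp => ?_) (fun p hp => ?_) (h K ξ)
    · rw [stratum_disjoint hp hn, hb]; exact hx
    · rw [stratum_disjoint hp hm, hb]; exact hx₂
    · rw [stratum_disjoint hp hk, hb]; exact hx₃

theorem bcEquiv_center {K : Type u} [Field K] {ξ : Spec (CommRingCat.of K) ⟶ X'} (a : Fib ξ ((FEt.restrict r).obj Y)) :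
    center (bcEquiv r a) = (bcFst r Y) (center a) := by
  let al : Spec (CommRingCat.of K) ⟶ ((FEt.restrict r).obj Y).left := a.left
  exact Scheme.Hom.comp_apply al (bcFst r Y) (IsLocalRing.closedPoint K)

theorem pmap_bcEquiv_symm {K : Type u} [Field K] {ξ : Spec (CommRingCat.of K) ⟶ X'} (φ : Y ⟶ Z) (a : Fib (ξ ≫ r) Y) :
    pmap ((FEt.restrict r).map φ) ((bcEquiv r).symm a) = (bcEquiv r).symm (pmap φ a) := by
  apply (bcEquiv r).injective
  rw [bcEquiv_pmap, Equiv.apply_symm_apply, Equiv.apply_symm_apply]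

theorem faithful (hr : MeetsClopens r) : (FEt.restrict r).Faithful := ⟨fun {Y Z} f g hfg => by
  haveI : IsIso (equalizer.ι f g) := isIso_of_bijective_above r hr _ fun K _ _ ξ => by
    refine ⟨pmap_injective _, fun a => exists_fib_equalizer f g a ((bcEquiv r).symm.injective ?_)⟩
    rw [← pmap_bcEquiv_symm, ← pmap_bcEquiv_symm, hfg]
  exact (cancel_epi (equalizer.ι f g)).1 (equalizer.condition f g)⟩

/-- Clopens of base changed covers descend. -/
def ClopensDescend : Prop := ∀ (W : FEt.Cat X) (V : Set ((FEt.restrict r).obj W).left), IsClopen V →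
  ∃ U : Set W.left, IsClopen U ∧ (bcFst r W) ⁻¹' U = V

theorem full (hr : MeetsClopens r) (hU : ClopensDescend r) : (FEt.restrict r).Full := ⟨fun {Y Z} h => by
  let R := FEt.restrict r
  let m : R.obj Y ⟶ R.obj (Y ⨯ Z) := prod.lift (𝟙 _) h ≫ inv (prodComparison R Y Z)
  have hm1 : m ≫ R.map prod.fst = 𝟙 _ := by
    rw [Category.assoc, inv_prodComparison_map_fst, prod.lift_fst]
  have hm2 : m ≫ R.map prod.snd = h := by
    rw [Category.assoc, inv_prodComparison_map_snd, prod.lift_snd]
  obtain ⟨U, hUc, hUV⟩ := hU (Y ⨯ Z) (Set.range m.left) ⟨m.left.isClosedMap.isClosed_range, m.left.isOpenMap.isOpen_range⟩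
  let ι := clopenPartι (Y ⨯ Z) ⟨U, hUc.2⟩ hUc.1
  have hmem : ∀ (K : Type u) [Field K] [IsAlgClosed K] (ξ : Spec (CommRingCat.of K) ⟶ X')
      (a : Fib ξ (R.obj Y)), ∃ e, pmap ι e = bcEquiv r (pmap m a) := fun K _ _ ξ a => by
    refine exists_lift_clopenPart _ _ _ (show center (bcEquiv r (pmap m a)) ∈ U from ?_)
    rw [bcEquiv_center]
    show center (pmap m a) ∈ (bcFst r (Y ⨯ Z)) ⁻¹' U
    rw [hUV, center_pmap]
    exact ⟨_, rfl⟩
  have himg : ∀ (K : Type u) [Field K] [IsAlgClosed K] (ξ : Spec (CommRingCat.of K) ⟶ X')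
      (e : Fib (ξ ≫ r) (clopenPart (Y ⨯ Z) ⟨U, hUc.2⟩ hUc.1)), ∃ a, bcEquiv r (pmap m a) = pmap ι e :=
    fun K _ _ ξ e => by
    have h1 : center (pmap ι e) ∈ U := center_clopenPart_mem e
    obtain ⟨c, hc⟩ := (bcEquiv r).surjective (pmap ι e)
    rw [← hc, bcEquiv_center] at h1
    have h2 : center c ∈ (bcFst r (Y ⨯ Z)) ⁻¹' U := h1
    rw [hUV] at h2
    obtain ⟨a, rfl⟩ := exists_lift_of_mem_range m c h2
    exact ⟨a, hc⟩
  haveI : IsIso (ι ≫ prod.fst) := isIso_of_bijective_above r hr _ fun K _ _ ξ => by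
    refine ⟨fun e e' he => ?_, fun b => ?_⟩
    · obtain ⟨a, ha⟩ := himg K ξ e
      obtain ⟨a', ha'⟩ := himg K ξ e'
      rw [pmap_comp, pmap_comp, ← ha, ← ha', ← bcEquiv_pmap, ← bcEquiv_pmap, (bcEquiv r).injective.eq_iff,
        ← pmap_comp, ← pmap_comp, hm1, pmap_id, pmap_id] at he
      subst he
      exact pmap_injective ι (ha.symm.trans ha')
    · obtain ⟨a, rfl⟩ := (bcEquiv r).surjective b
      obtain ⟨e, he⟩ := hmem K ξ a
      exact ⟨e, by rw [pmap_comp, he, ← bcEquiv_pmap, ← pmap_comp, hm1, pmap_id]⟩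
  refine ⟨inv (ι ≫ prod.fst) ≫ ι ≫ prod.snd, hom_ext fun K _ _ ξ a => (bcEquiv r).injective ?_⟩
  obtain ⟨e, he⟩ := hmem K ξ a
  have hfst : pmap (ι ≫ prod.fst) e = bcEquiv r a := by
    rw [pmap_comp, he, ← bcEquiv_pmap, ← pmap_comp, hm1, pmap_id]
  rw [bcEquiv_pmap, ← hfst, ← pmap_comp, IsIso.hom_inv_id_assoc, pmap_comp, he, ← bcEquiv_pmap, ← pmap_comp, hm2]⟩

theorem clopensDescend_of_univHomeo [IsIntegralHom r] [UniversallyInjective r] [Surjective r] : ClopensDescend r :=
  fun W V hV => by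
    haveI : IsIntegralHom (bcFst r W) := MorphismProperty.pullback_fst (P := @IsIntegralHom) _ _ inferInstance
    haveI : UniversallyInjective (bcFst r W) := MorphismProperty.pullback_fst (P := @UniversallyInjective) _ _ inferInstance
    haveI : Surjective (bcFst r W) := MorphismProperty.pullback_fst (P := @Surjective) _ _ inferInstance
    have h := Groth.Agent.UnivHomeo.isHomeomorph (Groth.Agent.UnivHomeo.of_isIntegralHom (bcFst r W))
    exact ⟨(bcFst r W) '' V, ⟨(h.homeomorph).isClosed_image.2 hV.1, h.isOpenMap _ hV.2⟩,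
      Set.preimage_image_eq _ h.injective⟩

theorem finite_connectedComponents {T : Type*} [TopologicalSpace T] [TopologicalSpace.NoetherianSpace T] :
    Finite (ConnectedComponents T) := by
  haveI := (TopologicalSpace.NoetherianSpace.finite_irreducibleComponents (α := T)).to_subtype
  refine Finite.of_surjective (fun C : irreducibleComponents T => ConnectedComponents.mk C.2.1.1.some) fun c => ?_
  obtain ⟨t, rfl⟩ := ConnectedComponents.surjective_coe c
  refine ⟨⟨irreducibleComponent t, irreducibleComponent_mem_irreducibleComponents t⟩, ?_⟩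
  exact ConnectedComponents.coe_eq_coe'.2 ((isIrreducible_irreducibleComponent.isConnected.isPreconnected.subset_connectedComponent
    mem_irreducibleComponent) (Set.Nonempty.some_mem _))

theorem clopensDescend_of_components [IsNoetherian X]
    (h : ∀ W : FEt.Cat X, Function.Bijective (pullback.fst W.hom r).continuous.connectedComponentsMap) :
    ClopensDescend r := fun W V hV => by
  let w : W.left ⟶ X := W.hom
  haveI : IsFinite w := W.prop.1
  haveI : IsLocallyNoetherian W.left := LocallyOfFiniteType.isLocallyNoetherian w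
  haveI : CompactSpace W.left := QuasiCompact.compactSpace_of_compactSpace w
  haveI : IsNoetherian W.left := ⟨⟩
  haveI := finite_connectedComponents (T := W.left)
  let e := Equiv.ofBijective _ (h W)
  let mkV : Set (_root_.ConnectedComponents ((FEt.restrict r).obj W).left) := ConnectedComponents.mk '' V
  refine ⟨ConnectedComponents.mk ⁻¹' (e.symm ⁻¹' mkV),
    IsClopen.preimage (isClopen_discrete _) ConnectedComponents.continuous_coe, ?_⟩
  ext z
  have hz : e.symm (ConnectedComponents.mk ((bcFst r W) z)) = ConnectedComponents.mk z :=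
    e.symm_apply_eq.2 (Continuous.connectedComponentsMap_mk (pullback.fst W.hom r).continuous z).symm
  show e.symm (ConnectedComponents.mk ((bcFst r W) z)) ∈ mkV ↔ z ∈ V
  rw [hz]
  refine ⟨?_, fun hzV => ⟨z, hzV, rfl⟩⟩
  rintro ⟨v, hv, hvz⟩
  exact hV.connectedComponent_subset hv (ConnectedComponents.coe_eq_coe'.1 hvz.symm)

theorem meetsClopens_of_connectedComponentsMap
    (h : ∀ W : FEt.Cat X, Function.Bijective (pullback.fst W.hom r).continuous.connectedComponentsMap) :
    MeetsClopens r := meetsClopens_of_components r fun x => by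
  obtain ⟨c, hc⟩ := (h (one X)).2 (ConnectedComponents.mk x)
  obtain ⟨z, rfl⟩ := ConnectedComponents.surjective_coe c
  refine ⟨pullback.snd (one X).hom r z, ?_⟩
  rw [Continuous.connectedComponentsMap_mk] at hc
  have h2 := ConnectedComponents.coe_eq_coe'.1 hc
  have h3 : r (pullback.snd (one X).hom r z) = pullback.fst (one X).hom r z := by
    rw [← Scheme.Hom.comp_apply, ← pullback.condition, Scheme.Hom.comp_apply]
    rfl
  rw [h3]
  exact h2

end Groth.Agent.FEtLib
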