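import Groth.Agent.FEtLib.Enum
import Groth.Agent.QuotLib.Free

/-! A cover of constant degree is split by the cover of its enumerations. -/

set_option autoImplicit false
universe u
open CategoryTheory CategoryTheory.Limits AlgebraicGeometry MorphismProperty

noncomputable section

namespace Groth.Agent.FEtLib

variable {X : Scheme.{u}} (Z : FEt.Cat X) (n : ℕ)

theorem surjective_enum (h : ∀ x, x ∈ stratum Z n) : Surjective (enum Z n).hom := ⟨fun x => by
  obtain ⟨K, _, _, ξ, hξ⟩ := exists_base_point x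
  have hS : base ξ ∈ stratum Z n := h _
  obtain ⟨e⟩ := exists_fin_equiv hS
  obtain ⟨p, -⟩ := exists_enum hS e
  exact ⟨center p, (hom_center p).trans hξ⟩⟩

/-- The comparison map of the split cover. -/
def splitMap : (∐ fun _ : Fin n => (enum Z n).left) ⟶ pullback Z.hom (enum Z n).hom :=
  Limits.Sigma.desc fun i => pullback.lift (ev Z n i).left (𝟙 _)
    ((Over.w (ev Z n i)).trans (Category.id_comp _).symm)

theorem ι_splitMap_fst (i : Fin n) : Sigma.ι (fun _ : Fin n => (enum Z n).left) i ≫ splitMap Z n ≫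
    pullback.fst Z.hom (enum Z n).hom = (ev Z n i).left := by
  rw [splitMap, Limits.Sigma.ι_desc_assoc]
  exact pullback.lift_fst _ _ _

theorem ι_splitMap_snd (i : Fin n) : Sigma.ι (fun _ : Fin n => (enum Z n).left) i ≫ splitMap Z n ≫
    pullback.snd Z.hom (enum Z n).hom = 𝟙 _ := by
  rw [splitMap, Limits.Sigma.ι_desc_assoc]
  exact pullback.lift_snd _ _ _

theorem isIso_splitMap : IsIso (splitMap Z n) := by
  let z : Z.left ⟶ X := Z.hom
  let t : (enum Z n).left ⟶ X := (enum Z n).hom
  let d : (∐ fun _ : Fin n => (enum Z n).left) ⟶ pullback z t := splitMap Z n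
  show IsIso d
  haveI : Etale z := Z.prop.2
  haveI : Etale d := by
    refine IsZariskiLocalAtSource.sigmaDesc (P := @Etale) fun i => ?_
    let l : (enum Z n).left ⟶ pullback z t := pullback.lift (ev Z n i).left (𝟙 _)
      ((Over.w (ev Z n i)).trans (Category.id_comp _).symm)
    show Etale l
    haveI : Etale (l ≫ pullback.snd z t) := by
      rw [pullback.lift_snd]; infer_instance
    exact Etale.of_comp l (pullback.snd z t)
  refine Groth.Agent.QuotLib.isIso_of_etale_of_geom_bijective d (fun K _ _ w => ?_) (fun K _ _ s s' h => ?_)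
  · let a : Fib ((w ≫ pullback.snd z t) ≫ t) (enum Z n) := fibMk (w ≫ pullback.snd z t) rfl
    let b : Fib ((w ≫ pullback.snd z t) ≫ t) Z := fibMk (w ≫ pullback.fst z t)
      ((Category.assoc _ _ _).trans ((congrArg (w ≫ ·) pullback.condition).trans (Category.assoc _ _ _).symm))
    obtain ⟨i, hi⟩ := (enum_bijective a).2.2 b
    have hi' : (w ≫ pullback.snd z t) ≫ (ev Z n i).left = w ≫ pullback.fst z t :=
      congrArg (fun c : Fib _ Z => c.left) hi
    refine ⟨(w ≫ pullback.snd z t) ≫ Sigma.ι (fun _ : Fin n => (enum Z n).left) i, pullback.hom_ext ?_ ?_⟩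
    · refine Eq.trans ?_ hi'
      rw [Category.assoc, Category.assoc]
      exact congrArg ((w ≫ pullback.snd z t) ≫ ·) (ι_splitMap_fst Z n i)
    · rw [Category.assoc, Category.assoc]
      exact (congrArg ((w ≫ pullback.snd z t) ≫ ·) (ι_splitMap_snd Z n i)).trans (Category.comp_id _)
  · have hfac : ∀ (s : Spec (CommRingCat.of K) ⟶ ∐ fun _ : Fin n => (enum Z n).left),
        ∃ i a, a ≫ Sigma.ι (fun _ : Fin n => (enum Z n).left) i = s := fun s => by
      obtain ⟨i, y, hy⟩ := (sigmaOpenCover fun _ : Fin n => (enum Z n).left).exists_eq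
        (s (IsLocalRing.closedPoint K))
      refine ⟨i, IsOpenImmersion.lift (Sigma.ι (fun _ : Fin n => (enum Z n).left) i) s ?_,
        IsOpenImmersion.lift_fac _ _ _⟩
      rintro _ ⟨p, rfl⟩
      rw [@Subsingleton.elim (PrimeSpectrum K) _ p (IsLocalRing.closedPoint K)]
      exact ⟨y, hy⟩
    obtain ⟨i, a, rfl⟩ := hfac s
    obtain ⟨j, b, rfl⟩ := hfac s'
    have h1 : ((a ≫ Sigma.ι (fun _ : Fin n => (enum Z n).left) i) ≫ d) ≫ pullback.fst z t = ((b ≫ Sigma.ι (fun _ : Fin n => (enum Z n).left) j) ≫ d) ≫ pullback.fst z t := by rw [h]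
    have h2 : ((a ≫ Sigma.ι (fun _ : Fin n => (enum Z n).left) i) ≫ d) ≫ pullback.snd z t = ((b ≫ Sigma.ι (fun _ : Fin n => (enum Z n).left) j) ≫ d) ≫ pullback.snd z t := by rw [h]
    simp only [Category.assoc] at h1 h2
    have e1 : a ≫ (ev Z n i).left = b ≫ (ev Z n j).left :=
      (congrArg (a ≫ ·) (ι_splitMap_fst Z n i)).symm.trans (h1.trans (congrArg (b ≫ ·) (ι_splitMap_fst Z n j)))
    have e2 : a = b :=
      ((congrArg (a ≫ ·) (ι_splitMap_snd Z n i)).trans (Category.comp_id _)).symm.trans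
        (h2.trans ((congrArg (b ≫ ·) (ι_splitMap_snd Z n j)).trans (Category.comp_id _)))
    subst e2
    let c : Fib (a ≫ t) (enum Z n) := fibMk a rfl
    obtain rfl : i = j := (enum_bijective c).2.1 (fib_ext e1)
    rfl

/-- Finite disjoint unions of the base are finite étale. -/
theorem isFinite_and_etale_fold (Y : Scheme.{u}) (n : ℕ) :
    IsFinite (Limits.Sigma.desc fun _ : Fin n => 𝟙 Y) ∧ Etale (Limits.Sigma.desc fun _ : Fin n => 𝟙 Y) := by
  let F : Fin n → FEt.Cat Y := fun _ => one Y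
  let C : FEt.Cat Y := ∐ F
  let c' : C.left ⟶ Y := C.hom
  let ι' : Fin n → (Y ⟶ C.left) := fun i => (Sigma.ι F i).left
  have hι : ∀ i, ι' i ≫ c' = 𝟙 Y := fun i => Over.w (Sigma.ι F i)
  let c : (∐ fun _ : Fin n => Y) ⟶ C.left := Limits.Sigma.desc ι'
  haveI : Etale c := IsZariskiLocalAtSource.sigmaDesc (P := @Etale) fun i =>
    (inferInstance : Etale (Sigma.ι F i).left)
  haveI : IsIso c := by
    refine Groth.Agent.QuotLib.isIso_of_etale_of_geom_bijective c (fun K _ _ z => ?_) (fun K _ _ s s' h => ?_)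
    · obtain ⟨i, b, hb⟩ := exists_pmap_ι F (fibMk z rfl : Fib (z ≫ c') C)
      let bl : Spec (CommRingCat.of K) ⟶ Y := b.left
      refine ⟨bl ≫ Sigma.ι (fun _ : Fin n => Y) i, ?_⟩
      rw [Category.assoc, Limits.Sigma.ι_desc]
      exact congrArg (fun t : Fib (z ≫ c') C => t.left) hb
    · have hfac : ∀ (s : Spec (CommRingCat.of K) ⟶ ∐ fun _ : Fin n => Y),
          ∃ i a, a ≫ Sigma.ι (fun _ : Fin n => Y) i = s := fun s => by
        obtain ⟨i, y, hy⟩ := (sigmaOpenCover fun _ : Fin n => Y).exists_eq (s (IsLocalRing.closedPoint K))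
        refine ⟨i, IsOpenImmersion.lift (Sigma.ι (fun _ : Fin n => Y) i) s ?_, IsOpenImmersion.lift_fac _ _ _⟩
        rintro _ ⟨p, rfl⟩
        rw [@Subsingleton.elim (PrimeSpectrum K) _ p (IsLocalRing.closedPoint K)]
        exact ⟨y, hy⟩
      obtain ⟨i, a, rfl⟩ := hfac s
      obtain ⟨j, b, rfl⟩ := hfac s'
      rw [Category.assoc, Category.assoc, Limits.Sigma.ι_desc, Limits.Sigma.ι_desc] at h
      have hab : a = b := by
        have := congrArg (· ≫ c') h
        simpa [Category.assoc, hι] using this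
      subst hab
      obtain rfl : i = j := pmap_ι_eq_iff F (fibMk a (Category.comp_id _) : Fib a (F i))
        (fibMk a (Category.comp_id _) : Fib a (F j)) (fib_ext h)
      rfl
  have hd : (Limits.Sigma.desc fun _ : Fin n => 𝟙 Y) = c ≫ c' :=
    Limits.Sigma.hom_ext _ _ fun i => by rw [Limits.Sigma.ι_desc, Limits.Sigma.ι_desc_assoc, hι]
  haveI : IsFinite c' := C.prop.1
  haveI : Etale c' := C.prop.2
  rw [hd]
  exact ⟨inferInstance, inferInstance⟩

end Groth.Agent.FEtLib
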