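import Groth.Agent.FEtLib.Coprod

/-! Sums of covers over a clopen partition of the base. -/

set_option autoImplicit false
universe u
open CategoryTheory CategoryTheory.Limits AlgebraicGeometry MorphismProperty

noncomputable section

namespace Groth.Agent.FEtLib

variable {X : Scheme.{u}}

theorem exists_sum_of_partition {ι : Type u} (V : ι → X.Opens) (hd : ∀ i j x, x ∈ V i → x ∈ V j → i = j)
    (hc : ∀ x, ∃ i, x ∈ V i) (F : ι → FEt.Cat X) (hF : ∀ i y, (F i).hom y ∈ V i) :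
    ∃ (Q : FEt.Cat X) (e : ∀ i, F i ⟶ Q), (∀ i, Mono (e i)) ∧ (∀ y : Q.left, ∃ i, y ∈ Set.range (e i).left) ∧
      ∀ (T : FEt.Cat X) (h : ∀ i, F i ⟶ T), ∃ φ : Q ⟶ T, ∀ i, e i ≫ φ = h i := by
  let r : (∐ fun i => (F i).left) ⟶ X := Limits.Sigma.desc fun i => (F i).hom
  have hιr : ∀ i, Sigma.ι (fun i => (F i).left) i ≫ r = (F i).hom := fun i => Limits.Sigma.ι_desc _ _
  haveI : Etale r := IsZariskiLocalAtSource.sigmaDesc (P := @Etale) fun i => inferInstanceAs (Etale (F i).hom)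
  have hcov : ∀ y : (∐ fun i => (F i).left : Scheme.{u}), ∃ i z, Sigma.ι (fun i => (F i).left) i z = y := fun y =>
    Scheme.IsLocallyDirected.ι_jointly_surjective (Discrete.functor fun i => (F i).left) y |>.elim
      fun i hi => ⟨i.as, hi⟩
  haveI : IsFinite r := by
    refine (IsZariskiLocalAtTarget.iff_of_iSup_eq_top (P := @IsFinite) V
      (eq_top_iff.2 fun x _ => TopologicalSpace.Opens.mem_iSup.2 (hc x))).2 fun i => ?_
    let σ : (F i).left ⟶ ∐ fun i => (F i).left := Sigma.ι (fun i => (F i).left) i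
    have hrange : Set.range σ ⊆ Set.range (r ⁻¹ᵁ V i).ι := by
      rw [Scheme.Opens.range_ι]
      rintro _ ⟨y, rfl⟩
      show r (σ y) ∈ V i
      rw [← Scheme.Hom.comp_apply, hιr]
      exact hF i y
    let l : (F i).left ⟶ (r ⁻¹ᵁ V i).toScheme := AlgebraicGeometry.IsOpenImmersion.lift (r ⁻¹ᵁ V i).ι σ hrange
    have hl : l ≫ (r ⁻¹ᵁ V i).ι = σ := AlgebraicGeometry.IsOpenImmersion.lift_fac _ _ _
    haveI : IsOpenImmersion (l ≫ (r ⁻¹ᵁ V i).ι) := hl ▸ inferInstance
    haveI : IsOpenImmersion l := IsOpenImmersion.of_comp l (r ⁻¹ᵁ V i).ι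
    haveI : Surjective l := ⟨fun y => by
      obtain ⟨j, z, hz⟩ := hcov ((r ⁻¹ᵁ V i).ι y)
      obtain rfl : j = i := hd j i (r (Sigma.ι (fun i => (F i).left) j z))
        (by rw [← Scheme.Hom.comp_apply, hιr]; exact hF j z) (by rw [hz]; exact y.2)
      refine ⟨z, (r ⁻¹ᵁ V j).ι.isOpenEmbedding.injective ?_⟩
      rw [← Scheme.Hom.comp_apply, hl]
      exact hz⟩
    haveI : IsIso l := (isIso_iff_isOpenImmersion_and_surjective l).mpr ⟨inferInstance, inferInstance⟩
    haveI : IsFinite ((l ≫ r ∣_ V i) ≫ (V i).ι) := by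
      rw [Category.assoc, morphismRestrict_ι, ← Category.assoc, hl, hιr]
      exact inferInstanceAs (IsFinite (F i).hom)
    haveI : IsFinite (l ≫ r ∣_ V i) := IsFinite.of_comp _ (V i).ι
    exact (MorphismProperty.cancel_left_of_respectsIso @IsFinite l (r ∣_ V i)).1 inferInstance
  let Q : FEt.Cat X := Over.mk ⊤ r ⟨inferInstance, inferInstance⟩
  let e : ∀ i, F i ⟶ Q := fun i => Over.homMk (Sigma.ι (fun i => (F i).left) i) (hιr i) trivial
  refine ⟨Q, e, fun i => ?_, fun y => ?_, fun T h => ?_⟩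
  · haveI : Mono (((Over.forget FEt.prop.{u} ⊤ X).map (e i)).left) :=
      inferInstanceAs (Mono (Sigma.ι (fun i => (F i).left) i))
    haveI : Mono ((Over.forget FEt.prop.{u} ⊤ X).map (e i)) := CategoryTheory.Over.mono_of_mono_left _
    exact (Over.forget FEt.prop.{u} ⊤ X).mono_of_mono_map this
  · obtain ⟨i, z, hz⟩ := hcov y
    exact ⟨i, z, hz⟩
  · refine ⟨Over.homMk (Limits.Sigma.desc fun i => (h i).left) ?_ trivial, fun i => ?_⟩
    · refine Limits.Sigma.hom_ext _ _ fun i => ?_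
      show Sigma.ι (fun i => (F i).left) i ≫ Limits.Sigma.desc (fun i => (h i).left) ≫ T.hom = Sigma.ι (fun i => (F i).left) i ≫ r
      rw [← Category.assoc, Limits.Sigma.ι_desc, hιr]
      exact Over.w (h i)
    · ext
      exact Limits.Sigma.ι_desc _ _

theorem mem_of_hom {Y Q : FEt.Cat X} (e : Y ⟶ Q) (y : Y.left) : Q.hom (e.left y) = Y.hom y := by
  rw [← Scheme.Hom.comp_apply]
  exact congrArg (fun k : Y.left ⟶ X => k y) (Over.w e)

/-- Morphisms out of a cover, given on the parts over a clopen partition of the base. -/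
theorem exists_of_base_partition {Y T : FEt.Cat X} {ι : Type u} (V : ι → X.Opens) (U : ι → Y.left.Opens)
    (hUV : ∀ i y, y ∈ U i ↔ Y.hom y ∈ V i)
    (hU : ∀ i, IsClosed (U i : Set Y.left)) (hd : ∀ i j x, x ∈ V i → x ∈ V j → i = j)
    (hc : ∀ x, ∃ i, x ∈ V i) (h : ∀ i, clopenPart Y (U i) (hU i) ⟶ T) :
    ∃ φ : Y ⟶ T, ∀ i, clopenPartι Y (U i) (hU i) ≫ φ = h i := by
  obtain ⟨Q, e, he, hcov, hdesc⟩ := exists_sum_of_partition V hd hc (fun i => clopenPart Y (U i) (hU i))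
    fun i y => by
      have h1 := (hUV i _).1 (Subtype.mem (y : (U i : Set Y.left)))
      exact (mem_of_hom (clopenPartι Y (U i) (hU i)) y) ▸ h1
  obtain ⟨d, hd'⟩ := hdesc Y fun i => clopenPartι Y (U i) (hU i)
  haveI : IsIso d := isIso_of_pmap_bijective d fun K _ _ ξ => by
    refine ⟨fun a b hab => ?_, fun a => ?_⟩
    · obtain ⟨i, hi⟩ := hcov (center a)
      obtain ⟨j, hj⟩ := hcov (center b)
      obtain ⟨a, rfl⟩ := exists_lift_of_mem_range (e i) a hi
      obtain ⟨b, rfl⟩ := exists_lift_of_mem_range (e j) b hj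
      rw [← pmap_comp, ← pmap_comp, hd', hd'] at hab
      obtain rfl : i = j := hd i j _ ((hUV i _).1 (center_clopenPart_mem a))
        (by rw [hab]; exact (hUV j _).1 (center_clopenPart_mem b))
      rw [pmap_injective _ hab]
    · obtain ⟨i, hi⟩ := hc (Y.hom (center a))
      obtain ⟨b, hb⟩ := exists_lift_clopenPart (U i) (hU i) a ((hUV i _).2 hi)
      exact ⟨pmap (e i) b, by rw [← pmap_comp, hd', hb]⟩
  obtain ⟨φ, hφ⟩ := hdesc T h
  refine ⟨inv d ≫ φ, fun i => ?_⟩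
  rw [← hd' i, Category.assoc, IsIso.hom_inv_id_assoc, hφ]

end Groth.Agent.FEtLib
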