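import Groth.Agent.FEtLib.Coeq
import Groth.Agent.FEtLib.Glue

/-! Coequalizers of covers, and preservation of finite colimits by base change. -/

set_option autoImplicit false
universe u
open CategoryTheory CategoryTheory.Limits AlgebraicGeometry MorphismProperty

noncomputable section

namespace Groth.Agent.FEtLib

variable {X : Scheme.{u}} {A Z Q : FEt.Cat X}

/-- A coequalizer, on geometric points. -/
def IsGeomCoeq (f g : A ⟶ Z) (q : Z ⟶ Q) : Prop :=
  IsSurjOnPoints q ∧ ∀ (K : Type u) [Field K] [IsAlgClosed K] (ξ : Spec (CommRingCat.of K) ⟶ X) (a b : Fib ξ Z),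
    pmap q a = pmap q b ↔ Relation.EqvGen (PairRel f g) a b

theorem IsGeomCoeq.condition {f g : A ⟶ Z} {q : Z ⟶ Q} (hq : IsGeomCoeq f g q) : f ≫ q = g ≫ q :=
  hom_ext fun K _ _ ξ c => by
    rw [pmap_comp, pmap_comp]
    exact (hq.2 K ξ _ _).2 (.rel _ _ ⟨c, rfl, rfl⟩)

/-- Coequalizers exist, with the expected geometric points. -/
theorem exists_isGeomCoeq (f g : A ⟶ Z) : ∃ (Q : FEt.Cat X) (q : Z ⟶ Q), IsGeomCoeq f g q := by
  choose Qn qn hs hr using fun n => exists_part_coeq Z f g n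
  let V : ULift.{u} ℕ → X.Opens := fun i => stratum Z i.down
  have hd : ∀ i j x, x ∈ V i → x ∈ V j → i = j := fun i j x hi hj => ULift.ext _ _ (stratum_disjoint hi hj)
  have hc : ∀ x, ∃ i, x ∈ V i := fun x => ⟨⟨(exists_stratum Z x).choose⟩, (exists_stratum Z x).choose_spec⟩
  have hbase : ∀ (K : Type u) [Field K] [IsAlgClosed K] (ξ : Spec (CommRingCat.of K) ⟶ X) (n : ℕ)
      (z : Fib ξ (part Z n)), base ξ ∈ stratum Z n := fun K _ _ ξ n z =>
    hom_center (pmap (partι Z n) z) ▸ (center_clopenPart_mem z : center (pmap (partι Z n) z) ∈ partOpen Z n)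
  have hQ : ∀ i : ULift.{u} ℕ, ∀ y, (Qn i.down).hom y ∈ V i := fun i y => by
    obtain ⟨K, _, _, ξ, b, rfl⟩ := exists_point y
    obtain ⟨z, rfl⟩ := hs i.down K ξ b
    rw [hom_center]
    exact hbase K ξ i.down z
  obtain ⟨Q, e, he, hcov, -⟩ := exists_sum_of_partition V hd hc (fun i => Qn i.down) hQ
  obtain ⟨q, hq⟩ := exists_of_base_partition (Y := Z) V (fun i => partOpen Z i.down) (fun i y => Iff.rfl)
    (fun i => isClosed_partOpen Z i.down) hd hc fun i => qn i.down ≫ e i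
  have hq' : ∀ (K : Type u) [Field K] [IsAlgClosed K] (ξ : Spec (CommRingCat.of K) ⟶ X) (n : ℕ)
      (z : Fib ξ (part Z n)), pmap q (pmap (partι Z n) z) = pmap (e ⟨n⟩) (pmap (qn n) z) := fun K _ _ ξ n z => by
    rw [← pmap_comp, ← pmap_comp]
    exact congrArg (pmap · z) (hq ⟨n⟩)
  refine ⟨Q, q, fun K _ _ ξ b => ?_, fun K _ _ ξ a b => ?_⟩
  · obtain ⟨i, hi⟩ := hcov (center b)
    obtain ⟨b, rfl⟩ := exists_lift_of_mem_range (e i) b hi
    obtain ⟨z, rfl⟩ := hs i.down K ξ b
    exact ⟨_, hq' K ξ i.down z⟩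
  · obtain ⟨n, hn⟩ := exists_stratum Z (base ξ)
    have hmem : ∀ c : Fib ξ Z, center c ∈ partOpen Z n := fun c => show Z.hom (center c) ∈ stratum Z n by
      rw [hom_center]; exact hn
    obtain ⟨a, rfl⟩ : ∃ a', pmap (partι Z n) a' = a := exists_lift_of_mem_range (partι Z n) a ⟨⟨_, hmem a⟩, rfl⟩
    obtain ⟨b, rfl⟩ : ∃ b', pmap (partι Z n) b' = b := exists_lift_of_mem_range (partι Z n) b ⟨⟨_, hmem b⟩, rfl⟩
    rw [hq', hq',
      (pmap_injective (e ⟨n⟩)).eq_iff, hr n K ξ]

variable {f g : A ⟶ Z}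

theorem IsGeomCoeq.exists_desc {q : Z ⟶ Q} (hq : IsGeomCoeq f g q) {T : FEt.Cat X} (h : Z ⟶ T) (hh : f ≫ h = g ≫ h) :
    ∃ d, q ≫ d = h :=
  FEtLib.exists_desc hq.1 h fun K _ _ ξ a b hab => by
    have H := (hq.2 K ξ a b).1 hab
    induction H with
    | rel x y h' => obtain ⟨c, rfl, rfl⟩ := h'; rw [← pmap_comp, ← pmap_comp, hh]
    | refl x => rfl
    | symm x y h' ih => exact (ih ((hq.2 K ξ x y).2 h')).symm
    | trans x y z h₁ h₂ ih₁ ih₂ => exact (ih₁ ((hq.2 K ξ x y).2 h₁)).trans (ih₂ ((hq.2 K ξ y z).2 h₂))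

/-- A geometric coequalizer is a coequalizer. -/
def IsGeomCoeq.isColimit {q : Z ⟶ Q} (hq : IsGeomCoeq f g q) : IsColimit (Cofork.ofπ q hq.condition) :=
  Cofork.IsColimit.mk _ (fun s => (hq.exists_desc s.π s.condition).choose)
    (fun s => (hq.exists_desc s.π s.condition).choose_spec)
    fun s m hm => (haveI := hq.1.epi
      (cancel_epi q).1 (hm.trans (hq.exists_desc s.π s.condition).choose_spec.symm))

theorem isGeomCoeq_of_isColimit {c : Cofork f g} (hc : IsColimit c) : IsGeomCoeq f g c.π := by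
  obtain ⟨Q, q, hq⟩ := exists_isGeomCoeq f g
  let e : Q ≅ c.pt := hq.isColimit.coconePointUniqueUpToIso hc
  have he : q ≫ e.hom = c.π := hq.isColimit.comp_coconePointUniqueUpToIso_hom hc WalkingParallelPair.one
  have hbij : ∀ (K : Type u) [Field K] (ξ : Spec (CommRingCat.of K) ⟶ X), Function.Bijective (pmap (ξ := ξ) e.hom) :=
    fun K _ ξ => Function.bijective_iff_has_inverse.2 ⟨pmap e.inv,
      fun a => by rw [← pmap_comp, e.hom_inv_id, pmap_id], fun a => by rw [← pmap_comp, e.inv_hom_id, pmap_id]⟩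
  refine ⟨fun K _ _ ξ b => ?_, fun K _ _ ξ a b => ?_⟩
  · obtain ⟨b, rfl⟩ := (hbij K ξ).2 b
    obtain ⟨a, rfl⟩ := hq.1 K ξ b
    exact ⟨a, by rw [← pmap_comp, he]⟩
  · rw [← he, pmap_comp, pmap_comp, (hbij K ξ).1.eq_iff, hq.2 K ξ]

instance : HasCoequalizers (FEt.Cat X) :=
  haveI : ∀ {A Z : FEt.Cat X} {f g : A ⟶ Z}, HasColimit (parallelPair f g) := fun {A Z f g} => by
    obtain ⟨Q, q, hq⟩ := exists_isGeomCoeq f g
    exact ⟨⟨⟨_, hq.isColimit⟩⟩⟩
  hasCoequalizers_of_hasColimit_parallelPair _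

instance : HasFiniteColimits (FEt.Cat X) := hasFiniteColimits_of_hasCoequalizers_and_finite_coproducts

section BaseChange

variable {X' : Scheme.{u}} (r : X' ⟶ X) {Y : FEt.Cat X} {K : Type u} [Field K] {ξ : Spec (CommRingCat.of K) ⟶ X'}

/-- The projection of a base changed cover. -/
abbrev bcFst (Y : FEt.Cat X) : ((FEt.restrict r).obj Y).left ⟶ Y.left := pullback.fst Y.hom r

/-- Points of a base change. -/
def bcEquiv : Fib ξ ((FEt.restrict r).obj Y) ≃ Fib (ξ ≫ r) Y where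
  toFun a := fibMk (a.left ≫ pullback.fst Y.hom r) ((Category.assoc _ _ _).trans
    ((congrArg (fun k => a.left ≫ k) pullback.condition).trans ((Category.assoc _ _ _).symm.trans
      (congrArg (· ≫ r) (fib_w a)))))
  invFun b := fibMk (pullback.lift b.left ξ (fib_w b)) (pullback.lift_snd _ _ _)
  left_inv a := fib_ext (pullback.hom_ext (pullback.lift_fst _ _ _) ((pullback.lift_snd _ _ _).trans (fib_w a).symm))
  right_inv b := fib_ext (pullback.lift_fst _ _ _)

theorem restrict_map_left {Y' : FEt.Cat X} (φ : Y ⟶ Y') :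
    ((FEt.restrict r).map φ).left ≫ pullback.fst Y'.hom r = pullback.fst Y.hom r ≫ φ.left :=
  pullback.lift_fst _ _ _

theorem bcEquiv_pmap {Y' : FEt.Cat X} (φ : Y ⟶ Y') (a : Fib ξ ((FEt.restrict r).obj Y)) :
    bcEquiv r (pmap ((FEt.restrict r).map φ) a) = pmap φ (bcEquiv r a) :=
  fib_ext ((Category.assoc _ _ _).trans ((congrArg (a.left ≫ ·) (restrict_map_left r φ)).trans
    (Category.assoc _ _ _).symm))

theorem isGeomCoeq_restrict {f g : A ⟶ Z} {q : Z ⟶ Q} (hq : IsGeomCoeq f g q) :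
    IsGeomCoeq ((FEt.restrict r).map f) ((FEt.restrict r).map g) ((FEt.restrict r).map q) := by
  refine ⟨fun K _ _ ξ b => ?_, fun K _ _ ξ a b => ?_⟩
  · obtain ⟨a, ha⟩ := hq.1 K (ξ ≫ r) (bcEquiv r b)
    refine ⟨(bcEquiv r).symm a, (bcEquiv r).injective ?_⟩
    rw [bcEquiv_pmap, Equiv.apply_symm_apply, ha]
  · rw [← (bcEquiv r).injective.eq_iff, bcEquiv_pmap, bcEquiv_pmap, hq.2 K (ξ ≫ r),
      eqvGen_map_iff _ (bcEquiv r).bijective]
    have h : (fun x y => PairRel f g (bcEquiv r x) (bcEquiv r y)) =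
        PairRel (ξ := ξ) ((FEt.restrict r).map f) ((FEt.restrict r).map g) := funext₂ fun x y => propext ⟨
      fun ⟨c, h1, h2⟩ => ⟨(bcEquiv r).symm c, (bcEquiv r).injective (by rw [bcEquiv_pmap, Equiv.apply_symm_apply, h1]),
        (bcEquiv r).injective (by rw [bcEquiv_pmap, Equiv.apply_symm_apply, h2])⟩,
      fun ⟨c, h1, h2⟩ => ⟨bcEquiv r c, by rw [← h1, bcEquiv_pmap], by rw [← h2, bcEquiv_pmap]⟩⟩
    rw [h]

theorem preservesCoequalizers : PreservesColimitsOfShape WalkingParallelPair (FEt.restrict r) := by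
  refine ⟨fun {D} => ?_⟩
  suffices h : ∀ {A Z : FEt.Cat X} (f g : A ⟶ Z), PreservesColimit (parallelPair f g) (FEt.restrict r) by
    haveI := h (D.map WalkingParallelPairHom.left) (D.map WalkingParallelPairHom.right)
    exact preservesColimit_of_iso_diagram _ (diagramIsoParallelPair D).symm
  intro A Z f g
  obtain ⟨Q, q, hq⟩ := exists_isGeomCoeq f g
  exact preservesColimit_of_preserves_colimit_cocone hq.isColimit
    ((isColimitMapCoconeCoforkEquiv (FEt.restrict r) hq.condition).symm (isGeomCoeq_restrict r hq).isColimit)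

theorem preservesCoproduct {ι : Type} [Finite ι] (F : ι → FEt.Cat X) :
    PreservesColimit (Discrete.functor F) (FEt.restrict r) := by
  haveI : IsIso (sigmaComparison (FEt.restrict r) F) := isIso_of_pmap_bijective _ fun K _ _ ξ => by
    have hι : ∀ i, Sigma.ι (fun i => (FEt.restrict r).obj (F i)) i ≫ sigmaComparison (FEt.restrict r) F =
        (FEt.restrict r).map (Sigma.ι F i) := fun i => ι_comp_sigmaComparison _ _ _
    refine ⟨fun a b hab => ?_, fun b => ?_⟩
    · obtain ⟨i, a, rfl⟩ := exists_pmap_ι _ a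
      obtain ⟨j, b, rfl⟩ := exists_pmap_ι _ b
      rw [← pmap_comp, ← pmap_comp, hι, hι] at hab
      have h := congrArg (bcEquiv r) hab
      rw [bcEquiv_pmap, bcEquiv_pmap] at h
      obtain rfl := pmap_ι_eq_iff F _ _ h
      rw [(bcEquiv r).injective (pmap_ι_injective F i h)]
    · obtain ⟨i, c, hc⟩ := exists_pmap_ι F (bcEquiv r b)
      refine ⟨pmap (Sigma.ι (fun i => (FEt.restrict r).obj (F i)) i) ((bcEquiv r).symm c), (bcEquiv r).injective ?_⟩
      rw [← pmap_comp, hι, bcEquiv_pmap, Equiv.apply_symm_apply, hc]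
  exact PreservesCoproduct.of_iso_comparison (FEt.restrict r) F

theorem preservesFiniteColimits : PreservesFiniteColimits (FEt.restrict r) := by
  haveI := preservesCoequalizers r
  haveI : PreservesFiniteCoproducts (FEt.restrict r) := ⟨fun n => ⟨fun {D} =>
    haveI : PreservesColimit (Discrete.functor (D.obj ∘ Discrete.mk)) (FEt.restrict r) :=
      preservesCoproduct r (D.obj ∘ Discrete.mk)
    preservesColimit_of_iso_diagram _ Discrete.natIsoFunctor.symm⟩⟩
  exact preservesFiniteColimits_of_preservesCoequalizers_and_finiteCoproducts _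

end BaseChange

end Groth.Agent.FEtLib
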