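import Groth.Agent.FEtLib.Galois

/-! Covers of the spectrum of a field and the absolute Galois group. -/

set_option autoImplicit false
universe u
open CategoryTheory CategoryTheory.Limits AlgebraicGeometry MorphismProperty

noncomputable section

namespace Groth.Agent.FEtLib.FieldBase

variable (K : Type u) [Field K]

/-- The fixed algebraic closure. -/
abbrev Kb : Type u := AlgebraicClosure K

/-- The automorphism group of the algebraic closure. -/
abbrev G : Type u := Kb K ≃ₐ[K] Kb K

open Filter Topology in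
theorem compactSpace : CompactSpace (G K) := by
  refine ⟨isCompact_iff_ultrafilter_le_nhds.2 fun U _ => ?_⟩
  have hval : ∀ x : Kb K, ∃ y, {σ : G K | σ x = y} ∈ U := fun x => by
    have hfin : (Set.range fun σ : G K => σ x).Finite :=
      ((minpoly K x).rootSet_finite (Kb K)).subset (by
        rintro _ ⟨σ, rfl⟩
        rw [Polynomial.mem_rootSet]
        exact ⟨minpoly.ne_zero (Algebra.IsIntegral.isIntegral x), by
          rw [Polynomial.aeval_algHom_apply σ x, minpoly.aeval, map_zero]⟩)
    have hcover : (⋃ y ∈ Set.range fun σ : G K => σ x, {σ : G K | σ x = y}) ∈ U := by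
      have hu : (⋃ y ∈ Set.range fun σ : G K => σ x, {σ : G K | σ x = y}) = Set.univ :=
        Set.eq_univ_of_forall fun (σ : G K) => Set.mem_iUnion₂.2 ⟨σ x, ⟨σ, rfl⟩, rfl⟩
      rw [hu]
      exact Filter.univ_mem
    obtain ⟨y, -, hy⟩ := (Ultrafilter.finite_biUnion_mem_iff hfin).1 hcover
    exact ⟨y, hy⟩
  choose g hg using hval
  have hne : ∀ {s : Set (G K)}, s ∈ U → s.Nonempty := fun hs => Filter.nonempty_of_mem hs
  have hmul : ∀ x y, g (x * y) = g x * g y := fun x y => by
    obtain ⟨σ, ⟨h1, h2⟩, h3⟩ := hne (inter_mem (inter_mem (hg x) (hg y)) (hg (x * y)))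
    rw [← h1, ← h2, ← h3, map_mul]
  have hadd : ∀ x y, g (x + y) = g x + g y := fun x y => by
    obtain ⟨σ, ⟨h1, h2⟩, h3⟩ := hne (inter_mem (inter_mem (hg x) (hg y)) (hg (x + y)))
    rw [← h1, ← h2, ← h3, map_add]
  have hK : ∀ r : K, g (algebraMap K _ r) = algebraMap K _ r := fun r => by
    obtain ⟨σ, h⟩ := hne (hg (algebraMap K _ r))
    rw [← h, AlgEquiv.commutes]
  let φ : Kb K →ₐ[K] Kb K :=
    { toFun := g
      map_one' := by simpa using hK 1
      map_mul' := hmul
      map_zero' := by simpa using hK 0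
      map_add' := hadd
      commutes' := hK }
  let τ : G K := AlgEquiv.ofBijective φ (Algebra.IsAlgebraic.algHom_bijective φ)
  refine ⟨τ, Set.mem_univ _, ?_⟩
  intro s hs
  have h1 : (fun σ => τ * σ) ⁻¹' s ∈ 𝓝 (1 : G K) :=
    (continuous_const_mul τ).continuousAt (by simpa using hs)
  obtain ⟨E, hE, hEs⟩ := (krullTopology_mem_nhds_one_iff K (Kb K) _).1 h1
  let b := Module.finBasis K E
  have hmem : (⋂ i, {σ : G K | σ (b i) = g (b i)}) ∈ (U : Filter (G K)) :=
    Filter.iInter_mem.2 fun i => hg _
  refine Filter.mem_of_superset hmem fun σ hσ => ?_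
  have hfix : τ⁻¹ * σ ∈ E.fixingSubgroup := by
    rw [IntermediateField.mem_fixingSubgroup_iff]
    intro x hx
    have hlin : ((σ : Kb K →ₐ[K] Kb K).toLinearMap.comp E.val.toLinearMap) = φ.toLinearMap.comp E.val.toLinearMap :=
      b.ext fun i => Set.mem_iInter.1 hσ i
    have h2 : σ x = τ x := LinearMap.congr_fun hlin ⟨x, hx⟩
    show τ.symm (σ x) = x
    rw [h2, AlgEquiv.symm_apply_apply]
  simpa using hEs hfix

/-- The base point. -/
abbrev ξ : Spec (CommRingCat.of (Kb K)) ⟶ Spec (CommRingCat.of K) :=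
  Spec.map (CommRingCat.ofHom (algebraMap K (Kb K)))

variable {K}

/-- The morphism given by an automorphism. -/
def galMap (σ : G K) : Spec (CommRingCat.of (Kb K)) ⟶ Spec (CommRingCat.of (Kb K)) :=
  Spec.map (CommRingCat.ofHom σ.toAlgHom.toRingHom)

theorem galMap_ξ (σ : G K) : galMap σ ≫ ξ K = ξ K := by
  rw [galMap, ξ, ← Spec.map_comp, ← CommRingCat.ofHom_comp]
  exact congrArg (fun f => Spec.map (CommRingCat.ofHom f)) (RingHom.ext σ.commutes)

theorem galMap_mul (σ τ : G K) : galMap (σ * τ) = galMap σ ≫ galMap τ := by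
  rw [galMap, galMap, galMap, ← Spec.map_comp]
  rfl

theorem galMap_one : galMap (1 : G K) = 𝟙 _ := by
  rw [galMap, show CommRingCat.ofHom (1 : G K).toAlgHom.toRingHom = 𝟙 (CommRingCat.of (Kb K)) from rfl, Spec.map_id]

instance galSMul (Y : FEt.Cat (Spec (CommRingCat.of K))) : SMul (G K) (Fib (ξ K) Y) where
  smul σ a := fibMk (galMap σ ≫ a.left) ((Category.assoc _ _ _).trans ((congrArg (galMap σ ≫ ·) (fib_w a)).trans
    (galMap_ξ σ)))

theorem smul_left (Y : FEt.Cat (Spec (CommRingCat.of K))) (σ : G K) (a : Fib (ξ K) Y) :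
    (σ • a).left = galMap σ ≫ a.left := rfl

instance galAction (Y : FEt.Cat (Spec (CommRingCat.of K))) : MulAction (G K) (Fib (ξ K) Y) where
  one_smul a := fib_ext (by rw [smul_left, galMap_one]; exact Category.id_comp _)
  mul_smul σ τ a := fib_ext (by rw [smul_left, smul_left, smul_left, galMap_mul]; exact Category.assoc _ _ _)

theorem smul_pmap {Y Z : FEt.Cat (Spec (CommRingCat.of K))} (φ : Y ⟶ Z) (σ : G K) (a : Fib (ξ K) Y) :
    pmap φ (σ • a) = σ • pmap φ a := fib_ext (Category.assoc _ _ _)

section Alg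

variable (Y : FEt.Cat (Spec (CommRingCat.of K)))

/-- The structure map of the algebra of functions. -/
def strMap : CommRingCat.of K ⟶ Γ(Y.left, ⊤) := (Scheme.ΓSpecIso _).inv ≫ Y.hom.appTop

instance : Algebra K Γ(Y.left, ⊤) := (strMap Y).hom.toAlgebra

theorem finite_sections : Module.Finite K Γ(Y.left, ⊤) := by
  let y : Y.left ⟶ Spec (CommRingCat.of K) := Y.hom
  haveI : IsFinite y := Y.prop.1
  exact (RingHom.Finite.comp y.finite_appTop
    (RingHom.Finite.of_surjective _ (ConcreteCategory.bijective_of_isIso (Scheme.ΓSpecIso _).inv).2) :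
      (strMap Y).hom.Finite)

theorem isAffine_left : IsAffine Y.left := by
  let y : Y.left ⟶ Spec (CommRingCat.of K) := Y.hom
  haveI : IsFinite y := Y.prop.1
  exact isAffine_of_isAffineHom y

variable {Y}

/-- The evaluation at a point. -/
def eval (a : Fib (ξ K) Y) : Γ(Y.left, ⊤) →ₐ[K] Kb K :=
  let s : Spec (CommRingCat.of (Kb K)) ⟶ Y.left := a.left
  { (s.appTop ≫ (Scheme.ΓSpecIso _).hom).hom with
    commutes' := fun r => by
      have h : strMap Y ≫ s.appTop ≫ (Scheme.ΓSpecIso _).hom = CommRingCat.ofHom (algebraMap K (Kb K)) := by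
        have hs : s ≫ Y.hom = ξ K := fib_w a
        rw [strMap, Category.assoc, ← Category.assoc Y.hom.appTop, ← Scheme.Hom.comp_appTop, hs,
          Scheme.ΓSpecIso_naturality, Iso.inv_hom_id_assoc]
      exact congrArg (fun k : _ ⟶ _ => CommRingCat.Hom.hom k r) h }

theorem eval_injective : Function.Injective (eval (Y := Y)) := fun a b h => by
  haveI := isAffine_left Y
  refine fib_ext (@ext_of_isAffine _ Y.left (isAffine_left Y) _ _ ?_)
  rw [← cancel_mono (Scheme.ΓSpecIso (CommRingCat.of (Kb K))).hom]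
  exact CommRingCat.hom_ext (RingHom.ext fun x => congrArg (fun k : Γ(Y.left, ⊤) →ₐ[K] Kb K => k x) h)

theorem eval_smul (σ : G K) (a : Fib (ξ K) Y) : eval (σ • a) = σ.toAlgHom.comp (eval a) := by
  refine AlgHom.ext fun x => ?_
  let s : Spec (CommRingCat.of (Kb K)) ⟶ Y.left := a.left
  have h : (galMap σ ≫ s).appTop ≫ (Scheme.ΓSpecIso _).hom =
      (s.appTop ≫ (Scheme.ΓSpecIso _).hom) ≫ CommRingCat.ofHom σ.toAlgHom.toRingHom := by
    rw [Scheme.Hom.comp_appTop, Category.assoc, galMap, Scheme.ΓSpecIso_naturality, Category.assoc]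
  exact congrArg (fun k : _ ⟶ _ => CommRingCat.Hom.hom k x) h

theorem isOpen_stabilizer (a : Fib (ξ K) Y) : IsOpen (MulAction.stabilizer (G K) a : Set (G K)) := by
  haveI := finite_sections Y
  let L : Subalgebra K (Kb K) := (eval a).range
  haveI : Module.Finite K L := Module.Finite.of_surjective (eval a).rangeRestrict.toLinearMap
    (eval a).rangeRestrict_surjective
  let E := IntermediateField.adjoin K (L : Set (Kb K))
  haveI hL : Module.Finite K (Subalgebra.toSubmodule L) := ‹Module.Finite K L›
  obtain ⟨s, hs⟩ := Module.Finite.iff_fg.1 hL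
  have hE : E = IntermediateField.adjoin K (s : Set (Kb K)) := by
    refine le_antisymm (IntermediateField.adjoin_le_iff.2 fun x hx => ?_)
      (IntermediateField.adjoin.mono _ _ _ fun x hx => (hs ▸ Submodule.subset_span hx : x ∈ Subalgebra.toSubmodule L))
    have hx' : x ∈ Submodule.span K (s : Set (Kb K)) := hs ▸ hx
    exact (Submodule.span_le (p := Subalgebra.toSubmodule (IntermediateField.adjoin K (s : Set (Kb K))).toSubalgebra)).2
      (IntermediateField.subset_adjoin K _) hx'
  haveI : FiniteDimensional K E := hE ▸ IntermediateField.finiteDimensional_adjoin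
    fun x _ => Algebra.IsIntegral.isIntegral x
  refine Subgroup.isOpen_mono (H₁ := E.fixingSubgroup) (fun σ hσ => eval_injective ?_) E.fixingSubgroup_isOpen
  rw [eval_smul]
  exact AlgHom.ext fun x => (IntermediateField.mem_fixingSubgroup_iff _ _).1 hσ _
    (IntermediateField.subset_adjoin K _ ⟨x, rfl⟩)

theorem exists_smul_eq_of_center {a b : Fib (ξ K) Y} (hab : RingHom.ker (eval a) = RingHom.ker (eval b)) :
    ∃ σ : G K, σ • a = b := by
  haveI := finite_sections Y
  haveI : Algebra.IsAlgebraic K (eval a).range := Algebra.IsAlgebraic.of_injective (eval a).range.val Subtype.val_injective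
  have hfield : IsField (eval a).range := isField_of_isIntegral_of_isField' (R := K) (Field.toIsField K)
  letI := hfield.toField
  have h0 : ∀ x ∈ RingHom.ker (eval a), eval b x = 0 := fun x hx => (RingHom.mem_ker (f := eval b)).1 (hab ▸ hx)
  let e := Ideal.quotientKerEquivRange (eval a)
  let f : (eval a).range →ₐ[K] Kb K := (Ideal.Quotient.liftₐ _ (eval b) h0).comp e.symm.toAlgHom
  have hf : ∀ x, f ((eval a).rangeRestrict x) = eval b x := fun x => by
    show Ideal.Quotient.liftₐ _ (eval b) h0 (e.symm ((eval a).rangeRestrict x)) = _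
    rw [show (eval a).rangeRestrict x = e (Ideal.Quotient.mk _ x) from rfl, AlgEquiv.symm_apply_apply]
    rfl
  letI : Algebra (eval a).range (Kb K) := (eval a).range.val.toRingHom.toAlgebra
  haveI : IsScalarTower K (eval a).range (Kb K) := IsScalarTower.of_algebraMap_eq fun _ => rfl
  let φ := AlgHom.liftNormal (F := K) (K₁ := (eval a).range) (K₂ := Kb K) f (Kb K)
  refine ⟨AlgEquiv.ofBijective φ (Algebra.IsAlgebraic.algHom_bijective φ), eval_injective ?_⟩
  rw [eval_smul]
  refine AlgHom.ext fun x => ?_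
  rw [← hf x]
  exact AlgHom.liftNormal_commutes f (Kb K) ((eval a).rangeRestrict x)

theorem transitive_of_connected [PreGaloisCategory.IsConnected Y] (a b : Fib (ξ K) Y) : ∃ σ : G K, σ • a = b := by
  haveI := finite_sections Y
  haveI := isAffine_left Y
  haveI : IsArtinianRing Γ(Y.left, ⊤) := IsArtinianRing.of_finite K _
  refine exists_smul_eq_of_center ?_
  haveI : DiscreteTopology (PrimeSpectrum Γ(Y.left, ⊤)) :=
    PrimeSpectrum.discreteTopology_iff_finite_and_krullDimLE_zero.2 ⟨inferInstance, inferInstance⟩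
  have hsub : Subsingleton (PrimeSpectrum Γ(Y.left, ⊤)) := by
    haveI : DiscreteTopology Y.left :=
      Y.left.isoSpec.hom.isOpenEmbedding.isEmbedding.discreteTopology
    haveI : Subsingleton Y.left := ?_
    · exact Y.left.isoSpec.inv.isOpenEmbedding.injective.subsingleton
    refine ⟨fun y y' => ?_⟩
    let U : Y.left.Opens := ⟨{y}, isOpen_discrete _⟩
    have hU : IsClosed (U : Set Y.left) := isClosed_discrete _
    haveI : IsIso (clopenPartι Y U hU) := PreGaloisCategory.IsConnected.noTrivialComponent _ _ fun h => by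
      have := (h.to (empty (Spec (CommRingCat.of K)))).left ⟨y, rfl⟩
      exact PEmpty.elim (this : (PEmpty : Type u))
    have h : (clopenPartι Y U hU).left ((inv (clopenPartι Y U hU)).left y') = y' :=
      congrArg (fun k : Y ⟶ Y => k.left y') (IsIso.inv_hom_id (clopenPartι Y U hU))
    rw [← h]
    exact ((inv (clopenPartι Y U hU)).left y').2.symm
  haveI : (RingHom.ker (eval a)).IsPrime := RingHom.ker_isPrime _
  haveI : (RingHom.ker (eval b)).IsPrime := RingHom.ker_isPrime _
  exact congrArg PrimeSpectrum.asIdeal (Subsingleton.elim (⟨RingHom.ker (eval a), inferInstance⟩ : PrimeSpectrum Γ(Y.left, ⊤))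
    ⟨RingHom.ker (eval b), inferInstance⟩)

end Alg

theorem eq_one_of_trivial (σ : G K)
    (h : ∀ (Y : FEt.Cat (Spec (CommRingCat.of K))) (a : Fib (ξ K) Y), σ • a = a) : σ = 1 := by
  have hsep : ∀ x ∈ separableClosure K (Kb K), σ x = x := fun x hx => by
    let L := IntermediateField.adjoin K {x}
    haveI : FiniteDimensional K L := IntermediateField.adjoin.finiteDimensional (Algebra.IsIntegral.isIntegral x)
    haveI : Algebra.IsSeparable K L :=
      (IntermediateField.isSeparable_adjoin_simple_iff_isSeparable _ _).2 (mem_separableClosure_iff.1 hx)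
    haveI : Algebra.FormallyEtale K L := Algebra.FormallyEtale.of_isSeparable K L
    haveI : Algebra.Etale K L :=
      { formallyEtale := inferInstance, finitePresentation := Algebra.FinitePresentation.of_finiteType.1 inferInstance }
    let c : Spec (CommRingCat.of L) ⟶ Spec (CommRingCat.of K) := Spec.map (CommRingCat.ofHom (algebraMap K L))
    have hc : FEt.prop c := ⟨(IsFinite.SpecMap_iff _).2 (RingHom.finite_algebraMap.2 inferInstance),
      (HasRingHomProperty.Spec_iff (P := @Etale)).2 (RingHom.etale_algebraMap.2 inferInstance)⟩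
    let Y : FEt.Cat (Spec (CommRingCat.of K)) := Over.mk ⊤ c hc
    let a : Fib (ξ K) Y := fibMk (Spec.map (CommRingCat.ofHom L.val.toRingHom)) (by
      show Spec.map _ ≫ c = ξ K
      rw [← Spec.map_comp]
      rfl)
    have h1 := congrArg (fun t : Fib (ξ K) Y => t.left) (h Y a)
    have h2 : Spec.map (CommRingCat.ofHom L.val.toRingHom ≫ CommRingCat.ofHom σ.toAlgHom.toRingHom) =
        Spec.map (CommRingCat.ofHom L.val.toRingHom) := (Spec.map_comp _ _).trans h1
    exact congrArg (fun k : CommRingCat.of L ⟶ CommRingCat.of (Kb K) => CommRingCat.Hom.hom k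
      (⟨x, IntermediateField.mem_adjoin_simple_self K x⟩ : L)) (Spec.map_injective h2)
  refine AlgEquiv.coe_toAlgHom_injective ?_
  have hinj := IsPurelyInseparable.injective_comp_algebraMap (separableClosure K (Kb K)) (Kb K) (L := Kb K)
  refine AlgHom.ext fun x => ?_
  exact congrArg (fun k : Kb K →+* Kb K => k x) (hinj (a₁ := σ.toAlgHom.toRingHom) (a₂ := RingHom.id _)
    (RingHom.ext fun y => hsep _ y.2))

end Groth.Agent.FEtLib.FieldBase
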