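import Groth.Agent.FEtLib.Restrict
import Groth.Agent.FEtLib.Field

/-! Covers pulled back from a field to a geometrically connected scheme. -/

set_option autoImplicit false
universe u
open CategoryTheory CategoryTheory.Limits AlgebraicGeometry MorphismProperty Topology

noncomputable section

namespace Groth.Agent.FEtLib.FieldBase

variable (k : Type u) [Field k] {X : Scheme.{u}} (f : X ⟶ Spec (CommRingCat.of k))

theorem subsingleton_base (x y : ↥(Spec (CommRingCat.of k))) : x = y :=
  @Subsingleton.elim (PrimeSpectrum k) _ x y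

theorem discreteTopology_left (W : FEt.Cat (Spec (CommRingCat.of k))) : DiscreteTopology W.left := by
  let w : W.left ⟶ Spec (CommRingCat.of k) := W.hom
  haveI : IsFinite w := W.prop.1
  refine discreteTopology_iff_forall_isOpen.2 fun s => ?_
  by_cases hW : Nonempty W.left
  · obtain ⟨z⟩ := hW
    have h := isDiscrete_iff_discreteTopology.1 (w.isDiscrete_preimage_singleton (w z))
    have hu : w ⁻¹' {w z} = Set.univ := Set.eq_univ_of_forall fun a => subsingleton_base k _ _
    rw [hu] at h
    haveI : DiscreteTopology W.left := (Homeomorph.Set.univ W.left).symm.isEmbedding.discreteTopology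
    exact isOpen_discrete s
  · rw [Set.eq_empty_of_forall_notMem (s := s) fun a => absurd ⟨a⟩ hW]
    exact isOpen_empty

theorem exists_fib_center {W : FEt.Cat (Spec (CommRingCat.of k))} (w : W.left) :
    ∃ a : Fib (ξ k) W, center a = w := by
  haveI := discreteTopology_left k W
  let U : W.left.Opens := ⟨{w}, isOpen_discrete _⟩
  let W' := clopenPart W U (isClosed_discrete _)
  obtain ⟨a, -⟩ := exists_lift_of_mem_range (toOne W') (fibMk (ξ k) (Category.comp_id _) : Fib (ξ k) (one _))
    ⟨⟨w, rfl⟩, subsingleton_base k _ _⟩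
  exact ⟨pmap (clopenPartι W U (isClosed_discrete _)) a, center_clopenPart_mem a⟩

variable [hX : ConnectedSpace ↥(pullback f (Spec.map (CommRingCat.ofHom (algebraMap k (AlgebraicClosure k)))))]

omit hX in
theorem meetsClopens_of_nonempty [Nonempty X] : MeetsClopens f := fun U _ ⟨p, hp⟩ => by
  obtain ⟨x⟩ := (inferInstance : Nonempty X)
  exact ⟨x, subsingleton_base k p (f x) ▸ hp⟩

include hX in
theorem meetsClopens_structure : MeetsClopens f := by
  haveI : Nonempty X := ⟨pullback.fst f _ hX.toNonempty.some⟩
  exact meetsClopens_of_nonempty k f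

include hX in
/-- The fibres of a base changed cover over its points are connected. -/
theorem isPreconnected_fibre (W : FEt.Cat (Spec (CommRingCat.of k))) (w : W.left) :
    _root_.IsPreconnected ((bcFst f W) ⁻¹' {w}) := by
  obtain ⟨a, ha⟩ := exists_fib_center k w
  let ι : Spec (CommRingCat.of (Kb k)) ⟶ W.left := a.left
  have hι : ι ≫ W.hom = ξ k := fib_w a
  have hrange : Set.range ι = {w} := by
    refine Set.eq_singleton_iff_unique_mem.2 ⟨⟨_, ha⟩, ?_⟩
    rintro _ ⟨p, rfl⟩
    rw [← ha]
    exact congrArg ι (subsingleton_base (Kb k) _ _)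
  have hr : Set.range (pullback.snd ι (bcFst f W)) = (bcFst f W) ⁻¹' {w} := by
    rw [← hrange]
    exact Scheme.Pullback.range_snd ι (bcFst f W)
  rw [← hr]
  let e : pullback ι (bcFst f W) ≅ pullback f (ξ k) :=
    pullbackRightPullbackFstIso W.hom f ι ≪≫ pullback.congrHom hι rfl ≪≫ pullbackSymmetry _ _
  haveI : ConnectedSpace ↥(pullback f (ξ k)) := hX
  haveI : ConnectedSpace ↥(pullback ι (bcFst f W)) :=
    e.inv.homeomorph.surjective.connectedSpace e.inv.homeomorph.continuous
  exact isPreconnected_range (pullback.snd ι (bcFst f W)).continuous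

include hX in
theorem clopensDescend_structure : ClopensDescend f := fun W V hV => by
  haveI := discreteTopology_left k W
  refine ⟨(bcFst f W) '' V, isClopen_discrete _, ?_⟩
  ext z
  refine ⟨?_, fun hz => ⟨z, hz, rfl⟩⟩
  rintro ⟨v, hv, hvz⟩
  exact (isPreconnected_fibre k f W ((bcFst f W) z)).subset_isClopen hV ⟨v, hvz, hv⟩ rfl

include hX in
theorem fullyFaithful_structure : (FEt.restrict f).Full ∧ (FEt.restrict f).Faithful :=
  ⟨full f (meetsClopens_structure k f) (clopensDescend_structure k f), faithful f (meetsClopens_structure k f)⟩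

end Groth.Agent.FEtLib.FieldBase
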