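import Groth.Agent.FEtLib.Restrict

/-! Clopens of base changed covers descend when base change is full. -/

set_option autoImplicit false
universe u
open CategoryTheory CategoryTheory.Limits AlgebraicGeometry MorphismProperty

noncomputable section

namespace Groth.Agent.FEtLib

variable {X X' : Scheme.{u}} (r : X' ⟶ X)

/-- The comparison map for trivial covers. -/
def oneToRestrict : one X' ⟶ (FEt.restrict r).obj (one X) :=
  Over.homMk (pullback.lift r (𝟙 X') ((Category.comp_id r).trans (Category.id_comp r).symm)) (pullback.lift_snd _ _ _) trivial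

open Classical in
theorem clopensDescend_of_full [(FEt.restrict r).Full] : ClopensDescend r := fun W V hV => by
  let R := FEt.restrict r
  let part : Bool → (R.obj W).left.Opens := fun b => if b then ⟨V, hV.2⟩ else ⟨Vᶜ, hV.1.isOpen_compl⟩
  have hc : ∀ b, IsClosed (part b : Set (R.obj W).left) := fun b => by
    cases b
    · exact hV.2.isClosed_compl
    · exact hV.1
  have hmem : ∀ b y, y ∈ part b ↔ (y ∈ V ↔ b = true) := fun b y => by
    cases b
    · exact ⟨fun h => iff_of_false h (by decide), fun h hy => absurd (h.1 hy) (by decide)⟩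
    · exact ⟨fun h => iff_of_true h rfl, fun h => h.2 rfl⟩
  let two := sum (one X) (one X)
  let side : Bool → (one X ⟶ two) := fun b => if b then suml _ _ else sumr _ _
  obtain ⟨χ, hχ⟩ := exists_of_partition part hc
    (fun i j y hi hj => Bool.eq_iff_iff.2 (((hmem i y).1 hi).symm.trans ((hmem j y).1 hj)))
    (fun y => ⟨decide (y ∈ V), (hmem _ y).2 decide_eq_true_iff.symm⟩)
    (fun b => toOne _ ≫ oneToRestrict r ≫ R.map (side b))
  let U : Set W.left := (R.preimage χ).left ⁻¹' Set.range (suml (one X) (one X)).left
  refine ⟨U, ⟨(suml (one X) (one X)).left.isClosedMap.isClosed_range.preimage (R.preimage χ).left.continuous,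
    (suml (one X) (one X)).left.isOpenMap.isOpen_range.preimage (R.preimage χ).left.continuous⟩, ?_⟩
  ext y
  obtain ⟨K, _, _, ξ, a, rfl⟩ := exists_point y
  obtain ⟨a', ha'⟩ := exists_lift_clopenPart (part (decide (center a ∈ V))) (hc _) a
    ((hmem _ _).2 decide_eq_true_iff.symm)
  have h1 : pmap (R.preimage χ) (bcEquiv r a) =
      pmap (side (decide (center a ∈ V))) (bcEquiv r (pmap (oneToRestrict r) (pmap (toOne _) a'))) := by
    rw [← bcEquiv_pmap, ← bcEquiv_pmap, R.map_preimage, ← pmap_comp, ← pmap_comp]
    exact congrArg (bcEquiv r) ((congrArg (pmap χ) ha'.symm).trans ((pmap_comp _ _ _).symm.trans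
      ((congrArg (pmap · a') (hχ _)))))
  show (R.preimage χ).left ((bcFst r W) (center a)) ∈ Set.range (suml (one X) (one X)).left ↔ center a ∈ V
  rw [← bcEquiv_center, ← center_pmap, h1]
  by_cases h : center a ∈ V
  · simp only [side, decide_eq_true h, if_true, center_pmap]
    exact iff_of_true ⟨_, rfl⟩ h
  · simp only [side, decide_eq_false h, Bool.false_eq_true, if_false, center_pmap]
    exact iff_of_false (fun ⟨z, hz⟩ => (isCompl_range_inl_inr (one X).left (one X).left).disjoint.le_bot
      ⟨⟨z, hz⟩, _, rfl⟩) h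

theorem connectedSpace_restrict (hr : MeetsClopens r) (hd : ClopensDescend r) (W : FEt.Cat X) [ConnectedSpace W.left] :
    ConnectedSpace ((FEt.restrict r).obj W).left := by
  haveI : Nonempty ((FEt.restrict r).obj W).left := by
    let U : Set X := Set.range W.hom
    obtain ⟨x', ⟨w, hw⟩⟩ := hr U ⟨W.hom.isClosedMap.isClosed_range, W.hom.isOpenMap.isOpen_range⟩
      (@Set.range_nonempty _ _ (inferInstanceAs (Nonempty W.left)) _)
    obtain ⟨z, -, -⟩ := Scheme.Pullback.exists_preimage_pullback (f := W.hom) (g := r) w x' hw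
    exact ⟨z⟩
  haveI : PreconnectedSpace ((FEt.restrict r).obj W).left := by
    refine preconnectedSpace_iff_clopen.2 fun V hV => ?_
    obtain ⟨U, hU, rfl⟩ := hd W V hV
    rcases isClopen_iff.1 hU with h | h <;> simp [h]
  exact ⟨inferInstance⟩

end Groth.Agent.FEtLib
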