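import Groth.Prelude.Def_FEt
import Mathlib

/-! The category of finite étale covers: limits, coproducts. -/

set_option autoImplicit false
universe u
open CategoryTheory CategoryTheory.Limits AlgebraicGeometry MorphismProperty

noncomputable section

namespace Groth.Agent.FEtLib

variable {X : Scheme.{u}}

instance (Y : FEt.Cat X) : IsFinite Y.hom := Y.prop.1

instance (Y : FEt.Cat X) : Etale Y.hom := Y.prop.2

instance hasOfPostcomp : FEt.prop.{u}.HasOfPostcompProperty FEt.prop.{u} where
  of_postcomp f g hg hfg := by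
    haveI : IsFinite g := hg.1
    haveI : Etale g := hg.2
    haveI : IsFinite (f ≫ g) := hfg.1
    haveI : Etale (f ≫ g) := hfg.2
    exact ⟨IsFinite.of_comp f g, Etale.of_comp f g⟩

instance : HasFiniteLimits (FEt.Cat X) := inferInstance

instance : PreservesFiniteLimits (Over.forget FEt.prop.{u} ⊤ X) := inferInstance

instance {Y : Scheme.{u}} (f : X ⟶ Y) : PreservesFiniteLimits (FEt.restrict f) :=
  inferInstanceAs (PreservesFiniteLimits (MorphismProperty.Over.pullback FEt.prop.{u} ⊤ f))

variable {Y Z : FEt.Cat X}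

instance (φ : Y ⟶ Z) : IsFinite φ.left :=
  haveI : IsFinite (φ.left ≫ Z.hom) := by rw [Over.w φ]; infer_instance
  IsFinite.of_comp φ.left Z.hom

instance (φ : Y ⟶ Z) : Etale φ.left :=
  haveI : Etale (φ.left ≫ Z.hom) := by rw [Over.w φ]; infer_instance
  Etale.of_comp φ.left Z.hom

/-- The functor to schemes over `X`, with underlying scheme. -/
theorem isIso_of_isIso_left (φ : Y ⟶ Z) [IsIso φ.left] : IsIso φ :=
  haveI : IsIso ((Over.forget FEt.prop.{u} ⊤ X).map φ) := by
    haveI : IsIso (((Over.forget FEt.prop.{u} ⊤ X).map φ).left) := ‹IsIso φ.left›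
    haveI : IsIso ((CategoryTheory.Over.forget X).map ((Over.forget FEt.prop.{u} ⊤ X).map φ)) := ‹IsIso φ.left›
    exact isIso_of_reflects_iso _ (CategoryTheory.Over.forget X)
  isIso_of_reflects_iso φ (Over.forget FEt.prop.{u} ⊤ X)

instance (φ : Y ⟶ Z) [Mono φ] : Mono φ.left :=
  haveI : Mono ((Over.forget FEt.prop.{u} ⊤ X).map φ) := inferInstance
  haveI : Mono ((CategoryTheory.Over.forget X).map ((Over.forget FEt.prop.{u} ⊤ X).map φ)) :=
    (CategoryTheory.Over.forget X).map_mono _
  this

instance (φ : Y ⟶ Z) [Mono φ] : IsOpenImmersion φ.left := IsOpenImmersion.of_flat_of_mono φ.left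

instance (φ : Y ⟶ Z) [Mono φ] : IsClosedImmersion φ.left :=
  IsClosedImmersion.of_isPreimmersion _ φ.left.isClosedMap.isClosed_range

/-- A clopen part of a cover is a cover. -/
def clopenPart (Y : FEt.Cat X) (U : Y.left.Opens) (hU : IsClosed (U : Set Y.left)) : FEt.Cat X :=
  haveI : IsClosedImmersion U.ι :=
    IsClosedImmersion.of_isPreimmersion _ (by rwa [Scheme.Opens.range_ι])
  Over.mk ⊤ (U.ι ≫ Y.hom) ⟨inferInstance, inferInstance⟩

/-- The inclusion of a clopen part. -/
def clopenPartι (Y : FEt.Cat X) (U : Y.left.Opens) (hU : IsClosed (U : Set Y.left)) :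
    clopenPart Y U hU ⟶ Y :=
  Over.homMk U.ι rfl trivial

/-- The empty cover. -/
def empty (X : Scheme.{u}) : FEt.Cat X :=
  Over.mk ⊤ (Scheme.emptyTo X) ⟨inferInstance, inferInstance⟩

/-- The sum of two covers. -/
def sum (Y Z : FEt.Cat X) : FEt.Cat X :=
  Over.mk ⊤ (coprod.desc Y.hom Z.hom)
    ⟨inferInstance, (IsZariskiLocalAtSource.iff_of_openCover (P := @Etale) (coprodOpenCover.{u, u} Y.left Z.left)).2 (by
      rintro (⟨⟩ | ⟨⟩)
      · show Etale ((coprod.inl : Y.left ⟶ Y.left ⨿ Z.left) ≫ coprod.desc Y.hom Z.hom)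
        rw [coprod.inl_desc]; infer_instance
      · show Etale ((coprod.inr : Z.left ⟶ Y.left ⨿ Z.left) ≫ coprod.desc Y.hom Z.hom)
        rw [coprod.inr_desc]; infer_instance)⟩

/-- The first summand. -/
def suml (Y Z : FEt.Cat X) : Y ⟶ sum Y Z := Over.homMk coprod.inl (coprod.inl_desc _ _) trivial

/-- The second summand. -/
def sumr (Y Z : FEt.Cat X) : Z ⟶ sum Y Z := Over.homMk coprod.inr (coprod.inr_desc _ _) trivial

/-- A cofan is a coproduct if it is one on underlying schemes. -/
def isColimitOfLeft {A B P : FEt.Cat X} (a : A ⟶ P) (b : B ⟶ P)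
    (h : IsColimit (BinaryCofan.mk a.left b.left)) : IsColimit (BinaryCofan.mk a b) :=
  BinaryCofan.IsColimit.mk _
    (fun {T} f g => Over.homMk (h.desc (BinaryCofan.mk f.left g.left))
      (BinaryCofan.IsColimit.hom_ext h
        ((Category.assoc _ _ _).symm.trans ((congrArg (· ≫ T.hom)
          (h.fac (BinaryCofan.mk f.left g.left) ⟨WalkingPair.left⟩)).trans ((Over.w f).trans (Over.w a).symm)))
        ((Category.assoc _ _ _).symm.trans ((congrArg (· ≫ T.hom)
          (h.fac (BinaryCofan.mk f.left g.left) ⟨WalkingPair.right⟩)).trans ((Over.w g).trans (Over.w b).symm))))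
      trivial)
    (fun {T} f g => by ext; exact h.fac (BinaryCofan.mk f.left g.left) ⟨WalkingPair.left⟩)
    (fun {T} f g => by ext; exact h.fac (BinaryCofan.mk f.left g.left) ⟨WalkingPair.right⟩)
    (fun {T} f g m h₁ h₂ => by
      ext
      exact BinaryCofan.IsColimit.hom_ext h
        ((congrArg (fun k : A ⟶ T => k.left) h₁).trans (h.fac (BinaryCofan.mk f.left g.left) ⟨WalkingPair.left⟩).symm)
        ((congrArg (fun k : B ⟶ T => k.left) h₂).trans (h.fac (BinaryCofan.mk f.left g.left) ⟨WalkingPair.right⟩).symm))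

/-- The sum is a coproduct. -/
def sumIsColimit (Y Z : FEt.Cat X) : IsColimit (BinaryCofan.mk (suml Y Z) (sumr Y Z)) :=
  isColimitOfLeft _ _ (coprodIsCoprod Y.left Z.left)

/-- The empty cover is initial. -/
def emptyIsInitial (X : Scheme.{u}) : IsInitial (empty X) :=
  IsInitial.ofUniqueHom (fun T => Over.homMk (Scheme.emptyTo T.left) (AlgebraicGeometry.emptyIsInitial.hom_ext _ _) trivial)
    fun T m => by ext; exact AlgebraicGeometry.emptyIsInitial.hom_ext _ _

instance : HasInitial (FEt.Cat X) := (emptyIsInitial X).hasInitial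

instance : HasBinaryCoproducts (FEt.Cat X) :=
  haveI : ∀ Y Z : FEt.Cat X, HasColimit (pair Y Z) := fun Y Z => ⟨⟨⟨_, sumIsColimit Y Z⟩⟩⟩
  hasBinaryCoproducts_of_hasColimit_pair _

instance : HasFiniteCoproducts (FEt.Cat X) := hasFiniteCoproducts_of_has_binary_and_initial

end Groth.Agent.FEtLib
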