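import Groth.Agent.FEtLib.Enum

/-! Coequalizers of covers, on one degree stratum. -/

set_option autoImplicit false
universe u
open CategoryTheory CategoryTheory.Limits AlgebraicGeometry MorphismProperty

noncomputable section

namespace Groth.Agent.FEtLib

variable {X : Scheme.{u}} {A Z : FEt.Cat X} (f g : A ⟶ Z) (n : ℕ)
variable {K : Type u} [Field K] {ξ : Spec (CommRingCat.of K) ⟶ X}

/-- The relation on a fibre generating the coequalizer. -/
def PairRel (a b : Fib ξ Z) : Prop := ∃ c : Fib ξ A, pmap f c = a ∧ pmap g c = b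

/-- The comparison map for a pair of enumerated sections. -/
def pairMap (i j : Fin n) : enum Z n ⟶ Z ⨯ Z := prod.lift (ev Z n i) (ev Z n j)

/-- The clopen set of enumerations in which two indices are related. -/
def relSet (i j : Fin n) : Set (enum Z n).left :=
  Set.range (pullback.snd (prod.lift f g) (pairMap (Z := Z) n i j)).left

theorem isClopen_relSet (i j : Fin n) : IsClopen (relSet f g n i j) :=
  ⟨(pullback.snd (prod.lift f g) (pairMap (Z := Z) n i j)).left.isClosedMap.isClosed_range,
    (pullback.snd (prod.lift f g) (pairMap (Z := Z) n i j)).left.isOpenMap.isOpen_range⟩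

theorem mem_relSet_iff [IsAlgClosed K] (i j : Fin n) (p : Fib ξ (enum Z n)) :
    center p ∈ relSet f g n i j ↔ PairRel f g (pmap (ev Z n i) p) (pmap (ev Z n j) p) := by
  constructor
  · intro h
    obtain ⟨d, rfl⟩ := exists_lift_of_mem_range _ p h
    refine ⟨pmap (pullback.fst _ _) d, ?_, ?_⟩ <;> rw [← pmap_comp, ← pmap_comp]
    · rw [show pullback.snd (prod.lift f g) (pairMap n i j) ≫ ev Z n i =
        pullback.snd (prod.lift f g) (pairMap n i j) ≫ pairMap n i j ≫ prod.fst by rw [pairMap, prod.lift_fst],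
        ← pullback.condition_assoc, prod.lift_fst]
    · rw [show pullback.snd (prod.lift f g) (pairMap n i j) ≫ ev Z n j =
        pullback.snd (prod.lift f g) (pairMap n i j) ≫ pairMap n i j ≫ prod.snd by rw [pairMap, prod.lift_snd],
        ← pullback.condition_assoc, prod.lift_snd]
  · rintro ⟨c, hc, hc'⟩
    have heq : pmap (prod.lift f g) c = pmap (pairMap n i j) p := fib_prod_ext
      (by rw [← pmap_comp, ← pmap_comp, pairMap, prod.lift_fst, prod.lift_fst]; exact hc)
      (by rw [← pmap_comp, ← pmap_comp, pairMap, prod.lift_snd, prod.lift_snd]; exact hc')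
    obtain ⟨d, hd⟩ := exists_fib_limit (limit.isLimit (cospan (prod.lift f g) (pairMap (Z := Z) n i j)))
      (fun k => match k with | .left => c | .right => p | .one => pmap (prod.lift f g) c)
      (by rintro _ _ (_ | ⟨_ | _⟩)
          · exact (congrArg (pmap · _) ((cospan _ _).map_id _)).trans (pmap_id _)
          · rfl
          · exact heq.symm)
    exact ⟨center d, ((center_pmap _ d).symm.trans (congrArg center (hd .right)))⟩

open Classical in
/-- The class of an index. -/
def cls (y : (enum Z n).left) (i : Fin n) : Finset (Fin n) :=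
  Finset.univ.filter fun j => Relation.EqvGen (fun a b => y ∈ relSet f g n a b) i j

theorem mem_cls {y : (enum Z n).left} {i j : Fin n} :
    j ∈ cls f g n y i ↔ Relation.EqvGen (fun a b => y ∈ relSet f g n a b) i j := by
  simp [cls]

theorem isLocallyConstant_cls (i : Fin n) : IsLocallyConstant fun y : (enum Z n).left => cls f g n y i := by
  refine (IsLocallyConstant.iff_exists_open _).2 fun y => ?_
  refine ⟨⋂ p : Fin n × Fin n, {z | z ∈ relSet f g n p.1 p.2 ↔ y ∈ relSet f g n p.1 p.2},
    isOpen_iInter_of_finite fun p => ?_, Set.mem_iInter.2 fun _ => Iff.rfl, fun z hz => ?_⟩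
  · by_cases h : y ∈ relSet f g n p.1 p.2
    · simpa [h] using (isClopen_relSet f g n p.1 p.2).2
    · simp only [h, iff_false]
      exact (isClopen_relSet f g n p.1 p.2).1.isOpen_compl
  · have : (fun a b => z ∈ relSet f g n a b) = fun a b => y ∈ relSet f g n a b :=
      funext₂ fun a b => propext (Set.mem_iInter.1 hz (a, b))
    ext j
    simp only [mem_cls, this]

/-- The clopen piece where the class of `i` is `S`. -/
def clsOpen (i : Fin n) (S : Finset (Fin n)) : (enum Z n).left.Opens :=
  ⟨{y | cls f g n y i = S}, (isLocallyConstant_cls f g n i) {S}⟩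

theorem isClosed_clsOpen (i : Fin n) (S : Finset (Fin n)) : IsClosed (clsOpen f g n i S : Set (enum Z n).left) :=
  ((isLocallyConstant_cls f g n i).isClopen_fiber S).1

variable (Z) in
/-- Enumerations with a chosen set of indices. -/
abbrev subsets : FEt.Cat X := ∐ fun _ : Finset (Fin n) => enum Z n

variable (Z) in
/-- The action on enumerations with a chosen set. -/
def subsetsPerm (σ : PermGrp.{u} n) : subsets Z n ⟶ subsets Z n :=
  Limits.Sigma.desc fun S => (enumAct Z n σ).hom ≫ Sigma.ι (fun _ : Finset (Fin n) => enum Z n) (S.image σ.down)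

variable (Z) in
theorem subsetsPerm_mul (σ τ : PermGrp.{u} n) : subsetsPerm Z n (σ * τ) = subsetsPerm Z n τ ≫ subsetsPerm Z n σ :=
  Limits.Sigma.hom_ext _ _ fun S => by
    simp only [subsetsPerm, Limits.Sigma.ι_desc, Limits.Sigma.ι_desc_assoc, Category.assoc]
    rw [map_mul, Finset.image_image]
    exact Category.assoc _ _ _

variable (Z) in
theorem subsetsPerm_one : subsetsPerm Z n 1 = 𝟙 _ :=
  Limits.Sigma.hom_ext _ _ fun S => by
    simp only [subsetsPerm, Limits.Sigma.ι_desc, map_one, Category.comp_id]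
    rw [show S.image (1 : PermGrp.{u} n).down = S from Finset.image_id]
    exact Category.id_comp _

variable (Z) in
/-- The action on enumerations with a chosen set. -/
def subsetsAct : PermGrp.{u} n →* Aut (subsets Z n) where
  toFun σ := ⟨subsetsPerm Z n σ, subsetsPerm Z n σ⁻¹,
    by rw [← subsetsPerm_mul, inv_mul_cancel, subsetsPerm_one], by rw [← subsetsPerm_mul, mul_inv_cancel, subsetsPerm_one]⟩
  map_one' := Iso.ext (subsetsPerm_one Z n)
  map_mul' a b := Iso.ext (subsetsPerm_mul Z n a b)

variable (Z) in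
/-- Enumerations with a chosen index. -/
abbrev indexed : FEt.Cat X := ∐ fun _ : Fin n => enum Z n

variable (Z) in
theorem exists_classMaps :
    ∃ c : indexed Z n ⟶ subsets Z n, ∀ (K : Type u) [Field K] [IsAlgClosed K] (ξ : Spec (CommRingCat.of K) ⟶ X)
      (p : Fib ξ (enum Z n)) (i : Fin n), pmap c (pmap (Sigma.ι (fun _ : Fin n => enum Z n) i) p) =
        pmap (Sigma.ι (fun _ : Finset (Fin n) => enum Z n) (cls f g n (center p) i)) p := by
  have h : ∀ i : Fin n, ∃ c : enum Z n ⟶ subsets Z n, ∀ S, clopenPartι _ (clsOpen f g n i S) (isClosed_clsOpen f g n i S) ≫ c =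
      clopenPartι _ _ _ ≫ Sigma.ι (fun _ : Finset (Fin n) => enum Z n) S := fun i =>
    exists_of_partition (clsOpen f g n i) (isClosed_clsOpen f g n i) (fun S S' y hy hy' => hy.symm.trans hy')
      (fun y => ⟨_, rfl⟩) _
  choose c hc using h
  refine ⟨Limits.Sigma.desc c, fun K _ _ ξ p i => ?_⟩
  obtain ⟨q, hq⟩ := exists_lift_clopenPart (clsOpen f g n i (cls f g n (center p) i)) (isClosed_clsOpen f g n i _) p rfl
  rw [← pmap_comp, Limits.Sigma.ι_desc]
  generalize cls f g n (center p) i = S at q hq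
  subst hq
  rw [← pmap_comp, ← pmap_comp, hc]

variable (Z) in
theorem pmap_subsetsAct (σ : PermGrp.{u} n) (S : Finset (Fin n)) (p : Fib ξ (enum Z n)) :
    pmap (subsetsAct Z n σ).hom (pmap (Sigma.ι (fun _ : Finset (Fin n) => enum Z n) S) p) =
      pmap (Sigma.ι (fun _ : Finset (Fin n) => enum Z n) (S.image σ.down)) (pmap (enumAct Z n σ).hom p) := by
  rw [← pmap_comp, ← pmap_comp]
  exact congrArg (pmap · p) (Limits.Sigma.ι_desc _ S)

variable [IsAlgClosed K]

theorem eqvGen_map_iff {α β : Type*} (e : α → β) (he : Function.Bijective e) (R : β → β → Prop) (a b : α) :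
    Relation.EqvGen R (e a) (e b) ↔ Relation.EqvGen (fun x y => R (e x) (e y)) a b := by
  constructor
  · intro h
    suffices H : ∀ x y, Relation.EqvGen R x y → ∀ a b, e a = x → e b = y →
        Relation.EqvGen (fun x y => R (e x) (e y)) a b from H _ _ h a b rfl rfl
    intro x y h
    induction h with
    | rel x y h => intro a b ha hb; exact .rel _ _ (ha.symm ▸ hb.symm ▸ h)
    | refl x => intro a b ha hb; obtain rfl := he.1 (ha.trans hb.symm); exact .refl _
    | symm x y _ ih => intro a b ha hb; exact .symm _ _ (ih b a hb ha)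
    | trans x y z _ _ ih₁ ih₂ =>
      intro a b ha hb
      obtain ⟨m, hm⟩ := he.2 y
      exact .trans _ m _ (ih₁ a m ha hm) (ih₂ m b hm hb)
  · intro h
    induction h with
    | rel x y h => exact .rel _ _ h
    | refl x => exact .refl _
    | symm x y _ ih => exact .symm _ _ ih
    | trans x y z _ _ ih₁ ih₂ => exact .trans _ _ _ ih₁ ih₂

theorem mem_cls_iff (p : Fib ξ (enum Z n)) (i j : Fin n) :
    j ∈ cls f g n (center p) i ↔ Relation.EqvGen (PairRel f g) (pmap (ev Z n i) p) (pmap (ev Z n j) p) := by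
  rw [mem_cls, eqvGen_map_iff (fun k => pmap (ev Z n k) p) (enum_bijective p).2]
  simp only [mem_relSet_iff]

theorem cls_act (σ : PermGrp.{u} n) (p : Fib ξ (enum Z n)) (i : Fin n) :
    cls f g n (center (pmap (enumAct Z n σ).hom p)) (σ.down i) = (cls f g n (center p) i).image σ.down := by
  ext j
  obtain ⟨j, rfl⟩ := σ.down.surjective j
  rw [Finset.mem_image, mem_cls_iff, pmap_enumAct, pmap_enumAct, ← mem_cls_iff]
  exact ⟨fun h => ⟨j, h, rfl⟩, fun ⟨k, hk, e⟩ => σ.down.injective e ▸ hk⟩

variable (Z) in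
/-- The stratum, pulled back. -/
def partOpen : Z.left.Opens := Z.hom ⁻¹ᵁ stratum Z n

variable (Z) in
theorem isClosed_partOpen : IsClosed (partOpen Z n : Set Z.left) :=
  (isClosed_stratum Z n).preimage Z.hom.continuous

variable (Z) in
/-- The stratum part. -/
def part : FEt.Cat X := clopenPart Z (partOpen Z n) (isClosed_partOpen Z n)

variable (Z) in
/-- Its inclusion. -/
def partι : part Z n ⟶ Z := clopenPartι _ _ _

instance : Mono (partι Z n) := mono_clopenPartι _ _

variable (Z) in
theorem exists_part_coeq : ∃ (Q : FEt.Cat X) (q : part Z n ⟶ Q), IsSurjOnPoints q ∧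
    ∀ (K : Type u) [Field K] [IsAlgClosed K] (ξ : Spec (CommRingCat.of K) ⟶ X) (a b : Fib ξ (part Z n)),
      pmap q a = pmap q b ↔ Relation.EqvGen (PairRel f g) (pmap (partι Z n) a) (pmap (partι Z n) b) := by
  obtain ⟨W, qW, hW⟩ := exists_isGeomQuot (subsetsAct Z n)
  obtain ⟨c, hc⟩ := exists_classMaps Z f g n
  let ιE := Sigma.ι (fun _ : Fin n => enum Z n)
  let e : indexed Z n ⟶ Z := Limits.Sigma.desc (ev Z n)
  have he : ∀ y, e.left y ∈ partOpen Z n := mem_of_center e fun K _ _ ξ a => by
    show Z.hom (center _) ∈ stratum Z n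
    rw [hom_center]
    obtain ⟨i, p, rfl⟩ := exists_pmap_ι _ a
    exact (enum_bijective p).1
  let e' : indexed Z n ⟶ part Z n := clopenLift _ _ e he
  have he' : ∀ (K : Type u) [Field K] [IsAlgClosed K] (ξ : Spec (CommRingCat.of K) ⟶ X) (p : Fib ξ (enum Z n)) (i : Fin n),
      pmap (partι Z n) (pmap e' (pmap (ιE i) p)) = pmap (ev Z n i) p := fun K _ _ ξ p i => by
    rw [← pmap_comp, ← pmap_comp, partι, show e' ≫ clopenPartι _ _ _ = e from clopenLift_ι _ _ _ _,
      Limits.Sigma.ι_desc]
  have hS : ∀ (K : Type u) [Field K] [IsAlgClosed K] (ξ : Spec (CommRingCat.of K) ⟶ X) (z : Fib ξ (part Z n)),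
      base ξ ∈ stratum Z n := fun K _ _ ξ z =>
    hom_center (pmap (partι Z n) z) ▸ (center_clopenPart_mem z : center (pmap (partι Z n) z) ∈ partOpen Z n)
  have hsurj : IsSurjOnPoints e' := fun K _ _ ξ z => by
    obtain ⟨eq'⟩ := exists_fin_equiv (hS K ξ z)
    obtain ⟨p, hp⟩ := exists_enum (hS K ξ z) eq'
    refine ⟨pmap (ιE (eq'.symm (pmap (partι Z n) z))) p, pmap_injective (partι Z n) ?_⟩
    rw [he', hp, Equiv.apply_symm_apply]
  obtain ⟨h, hh⟩ := exists_desc hsurj (c ≫ qW) fun K _ _ ξ a b hab => by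
    obtain ⟨i, p, rfl⟩ := exists_pmap_ι _ a
    obtain ⟨j, p', rfl⟩ := exists_pmap_ι _ b
    obtain ⟨σ, rfl⟩ := exists_enumAct p p'
    have hj : σ.down i = j := (enum_bijective _).2.1 (by
      have h2 := congrArg (pmap (partι Z n)) hab
      rw [he', he', ← pmap_enumAct σ p i] at h2
      exact h2)
    subst hj
    rw [pmap_comp, pmap_comp, hc, hc, cls_act, ← pmap_subsetsAct, ← pmap_comp (subsetsAct Z n σ).hom, hW.inv]
  refine ⟨image h, toImage h, isSurjOnPoints_toImage h, fun K _ _ ξ a b => ?_⟩
  rw [← (pmap_injective (imageι h)).eq_iff, ← pmap_comp, ← pmap_comp, toImage_ι]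
  obtain ⟨eq'⟩ := exists_fin_equiv (hS K ξ a)
  obtain ⟨p, hp⟩ := exists_enum (hS K ξ a) eq'
  have hz : ∀ z : Fib ξ (part Z n), ∃ i, pmap e' (pmap (ιE i) p) = z := fun z =>
    ⟨eq'.symm (pmap (partι Z n) z), pmap_injective (partι Z n) (by
      rw [he', hp, Equiv.apply_symm_apply])⟩
  obtain ⟨i, rfl⟩ := hz a
  obtain ⟨j, rfl⟩ := hz b
  rw [he', he', ← pmap_comp e', ← pmap_comp e', hh, pmap_comp, pmap_comp, hc, hc, ← mem_cls_iff]
  constructor
  · intro hij
    obtain ⟨σ, hσ⟩ := hW.trans K ξ _ _ hij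
    rw [pmap_subsetsAct] at hσ
    have hST := pmap_ι_eq_iff (fun _ : Finset (Fin n) => enum Z n) _ _ hσ
    rw [← hST] at hσ
    obtain rfl := eq_one_of_fixed σ p (pmap_ι_injective (fun _ : Finset (Fin n) => enum Z n) _ hσ)
    rw [show ((1 : PermGrp.{u} n).down : Fin n → Fin n) = id from rfl, Finset.image_id] at hST
    rw [hST, mem_cls]
    exact .refl _
  · intro hij
    congr 3
    ext k
    rw [mem_cls] at hij
    simp only [mem_cls]
    exact ⟨fun h => .trans _ _ _ (.symm _ _ hij) h, fun h => .trans _ _ _ hij h⟩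

end Groth.Agent.FEtLib
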