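import Groth.Agent.FEtLib.Quot

/-! Finite coproducts of covers on geometric points. -/

set_option autoImplicit false
universe u
open CategoryTheory CategoryTheory.Limits AlgebraicGeometry MorphismProperty

noncomputable section

namespace Groth.Agent.FEtLib

variable {X : Scheme.{u}} {Y Z T : FEt.Cat X}

/-- The trivial cover. -/
def one (X : Scheme.{u}) : FEt.Cat X := Over.mk ⊤ (𝟙 X) ⟨inferInstance, inferInstance⟩

/-- The map to the trivial cover. -/
def toOne (Y : FEt.Cat X) : Y ⟶ one X := Over.homMk Y.hom (Category.comp_id _) trivial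

theorem toOne_unique (φ : Y ⟶ one X) : φ = toOne Y := by
  ext
  have : φ.left ≫ 𝟙 X = Y.hom := Over.w φ
  exact (Category.comp_id _).symm.trans this

theorem fib_one_subsingleton {K : Type u} [Field K] {ξ : Spec (CommRingCat.of K) ⟶ X} (a b : Fib ξ (one X)) :
    a = b := fib_ext (by
  have ha : a.left ≫ 𝟙 X = ξ := fib_w a
  have hb : b.left ≫ 𝟙 X = ξ := fib_w b
  exact ((Category.comp_id _).symm.trans ha).trans ((Category.comp_id _).symm.trans hb).symm)

theorem mem_of_center {U : Z.left.Opens} (φ : Y ⟶ Z)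
    (h : ∀ (K : Type u) [Field K] [IsAlgClosed K] (ξ : Spec (CommRingCat.of K) ⟶ X) (a : Fib ξ Y),
      center (pmap φ a) ∈ U) (y : Y.left) : φ.left y ∈ U := by
  obtain ⟨K, _, _, ξ, a, rfl⟩ := exists_point y
  rw [← center_pmap]
  exact h K ξ a

/-- Lifting into a clopen part. -/
def clopenLiftLeft (U : Z.left.Opens) (φ : Y ⟶ Z) (h : ∀ y, φ.left y ∈ U) : Y.left ⟶ U.toScheme :=
  AlgebraicGeometry.IsOpenImmersion.lift U.ι φ.left (by
    rw [Scheme.Opens.range_ι]; rintro _ ⟨y, rfl⟩; exact h y)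

theorem clopenLiftLeft_ι (U : Z.left.Opens) (φ : Y ⟶ Z) (h : ∀ y, φ.left y ∈ U) :
    clopenLiftLeft U φ h ≫ U.ι = φ.left :=
  AlgebraicGeometry.IsOpenImmersion.lift_fac _ _ _

/-- Lifting into a clopen part. -/
def clopenLift (U : Z.left.Opens) (hU : IsClosed (U : Set Z.left)) (φ : Y ⟶ Z) (h : ∀ y, φ.left y ∈ U) :
    Y ⟶ clopenPart Z U hU :=
  Over.homMk (clopenLiftLeft U φ h) (by
    show clopenLiftLeft U φ h ≫ (U.ι ≫ Z.hom) = Y.hom
    rw [← Category.assoc, clopenLiftLeft_ι]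
    exact Over.w φ) trivial

theorem clopenLift_ι (U : Z.left.Opens) (hU : IsClosed (U : Set Z.left)) (φ : Y ⟶ Z) (h : ∀ y, φ.left y ∈ U) :
    clopenLift U hU φ h ≫ clopenPartι Z U hU = φ := by
  ext
  exact clopenLiftLeft_ι U φ h

instance (Y Z : FEt.Cat X) : Mono (suml Y Z) :=
  haveI : Mono (((Over.forget FEt.prop.{u} ⊤ X).map (suml Y Z)).left) :=
    inferInstanceAs (Mono (coprod.inl : Y.left ⟶ Y.left ⨿ Z.left))
  haveI : Mono ((Over.forget FEt.prop.{u} ⊤ X).map (suml Y Z)) := CategoryTheory.Over.mono_of_mono_left _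
  (Over.forget FEt.prop.{u} ⊤ X).mono_of_mono_map this

theorem pmap_suml_ne_sumr {K : Type u} [Field K] {ξ : Spec (CommRingCat.of K) ⟶ X} (a : Fib ξ Y) (b : Fib ξ Z) :
    pmap (suml Y Z) a ≠ pmap (sumr Y Z) b := fun h => by
  have h1 := congrArg center h
  rw [center_pmap, center_pmap] at h1
  exact (isCompl_range_inl_inr Y.left Z.left).disjoint.le_bot ⟨⟨center a, h1⟩, center b, rfl⟩

section Sigma

variable {ι : Type} [Finite ι] (F : ι → FEt.Cat X) {K : Type u} [Field K] {ξ : Spec (CommRingCat.of K) ⟶ X}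

open Classical in
/-- Separating a summand from the others. -/
def separate (i : ι) : ∐ F ⟶ sum (F i) (one X) :=
  Limits.Sigma.desc fun j => if h : j = i then eqToHom (by rw [h]) ≫ suml (F i) (one X) else toOne (F j) ≫ sumr _ _

theorem ι_separate_self (i : ι) : Sigma.ι F i ≫ separate F i = suml (F i) (one X) := by
  rw [separate, Limits.Sigma.ι_desc, dif_pos rfl]
  simp

theorem ι_separate_ne {i j : ι} (h : j ≠ i) : Sigma.ι F j ≫ separate F i = toOne (F j) ≫ sumr _ _ := by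
  rw [separate, Limits.Sigma.ι_desc, dif_neg h]

theorem pmap_ι_eq_iff {i j : ι} (a : Fib ξ (F i)) (b : Fib ξ (F j))
    (h : pmap (Sigma.ι F i) a = pmap (Sigma.ι F j) b) : i = j := by
  by_contra hne
  have h1 := congrArg (pmap (separate F i)) h
  rw [← pmap_comp, ← pmap_comp, ι_separate_self, ι_separate_ne F (Ne.symm hne), pmap_comp (toOne (F j))] at h1
  exact pmap_suml_ne_sumr a _ h1

theorem pmap_ι_injective (i : ι) : Function.Injective (pmap (ξ := ξ) (Sigma.ι F i)) := fun a b h => by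
  have h1 := congrArg (pmap (separate F i)) h
  rw [← pmap_comp, ← pmap_comp, ι_separate_self] at h1
  exact pmap_injective _ h1

omit [Field K] in
theorem mem_range_ι (y : (∐ F).left) : ∃ i, y ∈ Set.range (Sigma.ι F i).left := by
  let U : (∐ F).left.Opens := ⟨⋃ i, Set.range (Sigma.ι F i).left, isOpen_iUnion fun i =>
    (Sigma.ι F i).left.isOpenMap.isOpen_range⟩
  have hU : IsClosed (U : Set (∐ F).left) := isClosed_iUnion_of_finite fun i =>
    (Sigma.ι F i).left.isClosedMap.isClosed_range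
  let d : ∐ F ⟶ clopenPart (∐ F) U hU :=
    Limits.Sigma.desc fun i => clopenLift U hU (Sigma.ι F i) fun y => Set.mem_iUnion.2 ⟨i, y, rfl⟩
  have h : d ≫ clopenPartι (∐ F) U hU = 𝟙 _ := Limits.Sigma.hom_ext _ _ fun i => by
    rw [← Category.assoc, Limits.Sigma.ι_desc, clopenLift_ι, Category.comp_id]
  have hy : U.ι (d.left y) = y := congrArg (fun k : ∐ F ⟶ ∐ F => k.left y) h
  exact Set.mem_iUnion.1 (hy ▸ (d.left y).2)

theorem exists_pmap_ι [IsAlgClosed K] (a : Fib ξ (∐ F)) : ∃ (i : ι) (b : Fib ξ (F i)), pmap (Sigma.ι F i) b = a := by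
  obtain ⟨i, hi⟩ := mem_range_ι F (center a)
  exact ⟨i, exists_lift_of_mem_range _ a hi⟩

/-- Morphisms out of a clopen partition. -/
theorem exists_of_partition (V : ι → Y.left.Opens) (hV : ∀ i, IsClosed (V i : Set Y.left))
    (hd : ∀ i j, ∀ y, y ∈ V i → y ∈ V j → i = j) (hc : ∀ y, ∃ i, y ∈ V i)
    (h : ∀ i, clopenPart Y (V i) (hV i) ⟶ T) :
    ∃ φ : Y ⟶ T, ∀ i, clopenPartι Y (V i) (hV i) ≫ φ = h i := by
  let d : ∐ (fun i => clopenPart Y (V i) (hV i)) ⟶ Y := Limits.Sigma.desc fun i => clopenPartι Y (V i) (hV i)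
  haveI : IsIso d := isIso_of_pmap_bijective d fun K _ _ ξ => by
    refine ⟨fun a b hab => ?_, fun a => ?_⟩
    · obtain ⟨i, a, rfl⟩ := exists_pmap_ι _ a
      obtain ⟨j, b, rfl⟩ := exists_pmap_ι _ b
      rw [← pmap_comp, ← pmap_comp, Limits.Sigma.ι_desc, Limits.Sigma.ι_desc] at hab
      obtain rfl : i = j := hd i j _ (center_clopenPart_mem a) (by rw [hab]; exact center_clopenPart_mem b)
      rw [pmap_injective _ hab]
    · obtain ⟨i, hi⟩ := hc (center a)
      obtain ⟨b, hb⟩ := exists_lift_clopenPart (V i) (hV i) a hi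
      exact ⟨pmap (Sigma.ι (fun i => clopenPart Y (V i) (hV i)) i) b, by rw [← pmap_comp, Limits.Sigma.ι_desc, hb]⟩
  refine ⟨inv d ≫ Limits.Sigma.desc h, fun i => ?_⟩
  have : clopenPartι Y (V i) (hV i) = Sigma.ι (fun i => clopenPart Y (V i) (hV i)) i ≫ d :=
    (Limits.Sigma.ι_desc (fun i => clopenPartι Y (V i) (hV i)) i).symm
  rw [this, Category.assoc, IsIso.hom_inv_id_assoc, Limits.Sigma.ι_desc]

end Sigma

end Groth.Agent.FEtLib
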