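import Groth.Agent.FEtLib.Coprod

/-! Degree strata and the cover of enumerations of the fibres. -/

set_option autoImplicit false
universe u
open CategoryTheory CategoryTheory.Limits AlgebraicGeometry MorphismProperty

noncomputable section

namespace Groth.Agent.FEtLib

variable {X : Scheme.{u}} (Z : FEt.Cat X) (n : ℕ)

/-- The fibre power. -/
abbrev pow : FEt.Cat X := ∏ᶜ fun _ : Fin n => Z

/-- The projections of the fibre power. -/
abbrev proj (i : Fin n) : pow Z n ⟶ Z := Pi.π (fun _ : Fin n => Z) i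

variable {Z n} {K : Type u} [Field K] {ξ : Spec (CommRingCat.of K) ⟶ X}

/-- The coordinates of a point of the fibre power. -/
def coords (c : Fib ξ (pow Z n)) (i : Fin n) : Fib ξ Z := pmap (proj Z n i) c

theorem coords_injective : Function.Injective (coords : Fib ξ (pow Z n) → Fin n → Fib ξ Z) := fun a b h =>
  fib_limit_ext (limit.isLimit (Discrete.functor fun _ : Fin n => Z)) (by rintro ⟨j⟩; exact congrFun h j)

theorem exists_coords (s : Fin n → Fib ξ Z) : ∃ c : Fib ξ (pow Z n), coords c = s := by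
  obtain ⟨c, hc⟩ := exists_fib_limit (limit.isLimit (Discrete.functor fun _ : Fin n => Z))
    (fun j => s j.as) (fun {i j} f => by
      obtain ⟨i⟩ := i; obtain ⟨j⟩ := j
      obtain rfl : i = j := Discrete.eq_of_hom f
      rw [Subsingleton.elim f (𝟙 _), CategoryTheory.Functor.map_id]
      exact pmap_id _)
  exact ⟨c, funext fun i => hc ⟨i⟩⟩

variable (Z n)

/-- Permuting coordinates. -/
def permHom (σ : Equiv.Perm (Fin n)) : pow Z n ⟶ pow Z n := Pi.lift fun i => proj Z n (σ i)

theorem permHom_proj (σ : Equiv.Perm (Fin n)) (i : Fin n) : permHom Z n σ ≫ proj Z n i = proj Z n (σ i) :=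
  Pi.lift_π _ _

variable {Z n} in
theorem coords_permHom (σ : Equiv.Perm (Fin n)) (c : Fib ξ (pow Z n)) (i : Fin n) :
    coords (pmap (permHom Z n σ) c) i = coords c (σ i) := by
  rw [coords, coords, ← pmap_comp, permHom_proj]

/-- The locus where two coordinates agree. -/
def diagSet (i j : Fin n) : Set (pow Z n).left := Set.range (equalizer.ι (proj Z n i) (proj Z n j)).left

theorem isClopen_diagSet (i j : Fin n) : IsClopen (diagSet Z n i j) :=
  ⟨(equalizer.ι (proj Z n i) (proj Z n j)).left.isClosedMap.isClosed_range,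
    (equalizer.ι (proj Z n i) (proj Z n j)).left.isOpenMap.isOpen_range⟩

variable {Z n} in
theorem mem_diagSet_iff [IsAlgClosed K] (i j : Fin n) (c : Fib ξ (pow Z n)) :
    center c ∈ diagSet Z n i j ↔ coords c i = coords c j := by
  constructor
  · intro h
    obtain ⟨d, rfl⟩ := exists_lift_of_mem_range _ c h
    rw [coords, coords, ← pmap_comp, ← pmap_comp, equalizer.condition]
  · intro h
    obtain ⟨d, rfl⟩ := exists_fib_equalizer _ _ c h
    exact ⟨center d, (center_pmap _ _).symm⟩

/-- Tuples with distinct coordinates. -/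
def injSet : Set (pow Z n).left := ⋂ p : {p : Fin n × Fin n // p.1 ≠ p.2}, (diagSet Z n p.1.1 p.1.2)ᶜ

theorem isClopen_injSet : IsClopen (injSet Z n) :=
  ⟨isClosed_iInter fun _ => (isClopen_diagSet Z n _ _).2.isClosed_compl,
    isOpen_iInter_of_finite fun _ => (isClopen_diagSet Z n _ _).1.isOpen_compl⟩

variable {Z n} in
theorem mem_injSet_iff [IsAlgClosed K] (c : Fib ξ (pow Z n)) :
    center c ∈ injSet Z n ↔ Function.Injective (coords c) := by
  simp only [injSet, Set.mem_iInter, Set.mem_compl_iff, mem_diagSet_iff]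
  exact ⟨fun h i j e => Classical.by_contradiction fun hne => h ⟨(i, j), hne⟩ e,
    fun h p e => p.2 (h e)⟩

/-- The points of the base over which the degree is at least `n`. -/
def atLeast : Set X := (pow Z n).hom '' injSet Z n

theorem isClopen_atLeast : IsClopen (atLeast Z n) :=
  ⟨(pow Z n).hom.isClosedMap _ (isClopen_injSet Z n).1, (pow Z n).hom.isOpenMap _ (isClopen_injSet Z n).2⟩

/-- The base point of a field-valued point. -/
def base (ξ : Spec (CommRingCat.of K) ⟶ X) : X := ξ (IsLocalRing.closedPoint K)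

variable {Z n} in
theorem hom_center {Y : FEt.Cat X} (a : Fib ξ Y) : Y.hom (center a) = base ξ := by
  let al : Spec (CommRingCat.of K) ⟶ Y.left := a.left
  have h : al ≫ Y.hom = ξ := fib_w a
  exact (Scheme.Hom.comp_apply al Y.hom (IsLocalRing.closedPoint K)).symm.trans
    (congrArg (fun k : Spec (CommRingCat.of K) ⟶ X => k (IsLocalRing.closedPoint K)) h)

variable {Z n} in
theorem card_fib_ge_iff [IsAlgClosed K] : base ξ ∈ atLeast Z n ↔ ∃ s : Fin n → Fib ξ Z, Function.Injective s := by
  constructor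
  · rintro ⟨y, hy, hyx⟩
    let U : (pow Z n).left.Opens := ⟨injSet Z n, (isClopen_injSet Z n).2⟩
    let hU : IsClosed (U : Set (pow Z n).left) := (isClopen_injSet Z n).1
    obtain ⟨d, hd⟩ := exists_lift_of_mem_range (toOne (clopenPart (pow Z n) U hU))
      (fibMk ξ (Category.comp_id ξ) : Fib ξ (one X)) ⟨⟨y, hy⟩, hyx⟩
    exact ⟨_, (mem_injSet_iff _).1 (center_clopenPart_mem d)⟩
  · rintro ⟨s, hs⟩
    obtain ⟨c, rfl⟩ := exists_coords s
    exact ⟨center c, (mem_injSet_iff c).2 hs, hom_center c⟩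

/-- The stratum where the degree is `n`. -/
def stratum : X.Opens := ⟨atLeast Z n \ atLeast Z (n + 1),
  (isClopen_atLeast Z n).2.inter (isClopen_atLeast Z (n + 1)).1.isOpen_compl⟩

theorem isClosed_stratum : IsClosed (stratum Z n : Set X) :=
  (isClopen_atLeast Z n).1.inter (isClopen_atLeast Z (n + 1)).2.isClosed_compl

variable {Z n} in
theorem mem_stratum_iff [IsAlgClosed K] : base ξ ∈ stratum Z n ↔ Nat.card (Fib ξ Z) = n := by
  haveI := finite_fib ξ Z
  have hk : ∀ k, (∃ s : Fin k → Fib ξ Z, Function.Injective s) ↔ k ≤ Nat.card (Fib ξ Z) := fun k => by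
    constructor
    · rintro ⟨s, hs⟩; simpa using Nat.card_le_card_of_injective s hs
    · intro h
      exact ⟨(Finite.equivFin (Fib ξ Z)).symm ∘ Fin.castLE h,
        (Finite.equivFin (Fib ξ Z)).symm.injective.comp (Fin.castLE_injective h)⟩
  show base ξ ∈ atLeast Z n \ atLeast Z (n + 1) ↔ _
  rw [Set.mem_sdiff, card_fib_ge_iff, card_fib_ge_iff, hk, hk]
  omega

theorem exists_base_point (x : X) : ∃ (K : Type u) (_ : Field K) (_ : IsAlgClosed K)
    (ξ : Spec (CommRingCat.of K) ⟶ X), base ξ = x :=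
  QuotLib.exists_geom_point x

theorem exists_stratum (x : X) : ∃ n, x ∈ stratum Z n := by
  obtain ⟨K, _, _, ξ, rfl⟩ := exists_base_point x
  exact ⟨_, mem_stratum_iff.2 rfl⟩

variable {Z} in
theorem stratum_disjoint {m n : ℕ} {x : X} (hm : x ∈ stratum Z m) (hn : x ∈ stratum Z n) : m = n := by
  obtain ⟨K, _, _, ξ, rfl⟩ := exists_base_point x
  exact (mem_stratum_iff.1 hm).symm.trans (mem_stratum_iff.1 hn)

/-- The opens of enumerations of fibres. -/
def enumOpen : (pow Z n).left.Opens :=
  ⟨injSet Z n, (isClopen_injSet Z n).2⟩ ⊓ (pow Z n).hom ⁻¹ᵁ stratum Z n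

theorem isClosed_enumOpen : IsClosed (enumOpen Z n : Set (pow Z n).left) :=
  (isClopen_injSet Z n).1.inter ((isClosed_stratum Z n).preimage (pow Z n).hom.continuous)

/-- The cover of enumerations of the fibres. -/
def enum : FEt.Cat X := clopenPart (pow Z n) (enumOpen Z n) (isClosed_enumOpen Z n)

/-- Its inclusion. -/
def enumι : enum Z n ⟶ pow Z n := clopenPartι _ _ _

instance : Mono (enumι Z n) := mono_clopenPartι _ _

/-- The evaluation maps. -/
def ev (i : Fin n) : enum Z n ⟶ Z := enumι Z n ≫ proj Z n i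

/-- The group of permutations. -/
abbrev PermGrp : Type u := ULift.{u} (Equiv.Perm (Fin n))

variable {Z n} [IsAlgClosed K]

theorem pmap_ev (p : Fib ξ (enum Z n)) (i : Fin n) : pmap (ev Z n i) p = coords (pmap (enumι Z n) p) i :=
  pmap_comp _ _ _

theorem enum_bijective (p : Fib ξ (enum Z n)) :
    base ξ ∈ stratum Z n ∧ Function.Bijective fun i => pmap (ev Z n i) p := by
  haveI := finite_fib ξ Z
  have h : center (pmap (enumι Z n) p) ∈ enumOpen Z n := center_clopenPart_mem p
  have hS : base ξ ∈ stratum Z n := hom_center (pmap (enumι Z n) p) ▸ h.2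
  simp only [pmap_ev]
  exact ⟨hS, (Nat.bijective_iff_injective_and_card _).2
    ⟨(mem_injSet_iff _).1 h.1, by rw [mem_stratum_iff.1 hS, Nat.card_fin]⟩⟩

theorem enum_ext {p q : Fib ξ (enum Z n)} (h : ∀ i, pmap (ev Z n i) p = pmap (ev Z n i) q) : p = q :=
  pmap_injective (enumι Z n) (coords_injective (funext fun i => by rw [← pmap_ev, ← pmap_ev]; exact h i))

theorem exists_enum (hS : base ξ ∈ stratum Z n) (e : Fin n ≃ Fib ξ Z) :
    ∃ p : Fib ξ (enum Z n), ∀ i, pmap (ev Z n i) p = e i := by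
  obtain ⟨c, hc⟩ := exists_coords (ξ := ξ) (fun i => e i)
  have hmem : center c ∈ enumOpen Z n :=
    ⟨(mem_injSet_iff c).2 (by rw [hc]; exact e.injective),
      show (pow Z n).hom (center c) ∈ stratum Z n by rw [hom_center c]; exact hS⟩
  obtain ⟨p, hp⟩ := exists_lift_clopenPart (enumOpen Z n) (isClosed_enumOpen Z n) c hmem
  exact ⟨p, fun i => by rw [pmap_ev]; exact (congrArg (coords · i) hp).trans (congrFun hc i)⟩

theorem exists_fin_equiv (hS : base ξ ∈ stratum Z n) : Nonempty (Fin n ≃ Fib ξ Z) :=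
  haveI := finite_fib ξ Z
  ⟨(finCongr (mem_stratum_iff.1 hS).symm).trans (Finite.equivFin (Fib ξ Z)).symm⟩

omit [Field K] [IsAlgClosed K] in
theorem permHom_mem (σ : Equiv.Perm (Fin n)) (y : (enum Z n).left) :
    (enumι Z n ≫ permHom Z n σ).left y ∈ enumOpen Z n := by
  refine mem_of_center (enumι Z n ≫ permHom Z n σ) (fun K _ _ ξ p => ?_) y
  obtain ⟨hS, hb⟩ := enum_bijective p
  refine ⟨(mem_injSet_iff _).2 ?_, ?_⟩
  · intro i j hij
    rw [pmap_comp, coords_permHom, coords_permHom, ← pmap_ev, ← pmap_ev] at hij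
    exact σ.injective (hb.1 hij)
  · show (pow Z n).hom (center _) ∈ stratum Z n
    rw [hom_center]; exact hS

variable (Z n)

/-- Permutation of enumerations. -/
def enumPerm (σ : Equiv.Perm (Fin n)) : enum Z n ⟶ enum Z n :=
  clopenLift (enumOpen Z n) (isClosed_enumOpen Z n) (enumι Z n ≫ permHom Z n σ) (permHom_mem σ)

theorem enumPerm_ev (σ : Equiv.Perm (Fin n)) (i : Fin n) : enumPerm Z n σ ≫ ev Z n i = ev Z n (σ i) := by
  rw [ev, ev, ← Category.assoc, show enumPerm Z n σ ≫ enumι Z n = enumι Z n ≫ permHom Z n σ from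
    clopenLift_ι _ _ _ _, Category.assoc, permHom_proj]

theorem enum_hom_ext {T : FEt.Cat X} {a b : T ⟶ enum Z n} (h : ∀ i, a ≫ ev Z n i = b ≫ ev Z n i) : a = b := by
  rw [← cancel_mono (enumι Z n)]
  exact Pi.hom_ext _ _ fun i => by simp only [Category.assoc]; exact h i

theorem enumPerm_mul (σ τ : Equiv.Perm (Fin n)) : enumPerm Z n (σ * τ) = enumPerm Z n σ ≫ enumPerm Z n τ :=
  enum_hom_ext Z n fun i => by rw [Category.assoc, enumPerm_ev, enumPerm_ev, enumPerm_ev]; rfl

theorem enumPerm_one : enumPerm Z n 1 = 𝟙 _ := enum_hom_ext Z n fun i => by simp [enumPerm_ev]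

/-- The action of permutations on enumerations. -/
def enumAct : PermGrp.{u} n →* Aut (enum Z n) where
  toFun g := ⟨enumPerm Z n g.down⁻¹, enumPerm Z n g.down,
    by rw [← enumPerm_mul, inv_mul_cancel, enumPerm_one], by rw [← enumPerm_mul, mul_inv_cancel, enumPerm_one]⟩
  map_one' := Iso.ext (by simp [enumPerm_one]; rfl)
  map_mul' a b := Iso.ext (by
    show enumPerm Z n (a * b).down⁻¹ = enumPerm Z n b.down⁻¹ ≫ enumPerm Z n a.down⁻¹
    rw [← enumPerm_mul]
    exact congrArg (enumPerm Z n) (mul_inv_rev _ _))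

theorem enumAct_ev (g : PermGrp.{u} n) (i : Fin n) : (enumAct Z n g).hom ≫ ev Z n (g.down i) = ev Z n i := by
  show enumPerm Z n g.down⁻¹ ≫ _ = _
  rw [enumPerm_ev]
  simp

variable {Z n}

theorem pmap_enumAct (g : PermGrp.{u} n) (p : Fib ξ (enum Z n)) (i : Fin n) :
    pmap (ev Z n (g.down i)) (pmap (enumAct Z n g).hom p) = pmap (ev Z n i) p := by
  rw [← pmap_comp, enumAct_ev]

theorem exists_enumAct (p q : Fib ξ (enum Z n)) : ∃ g : PermGrp.{u} n, pmap (enumAct Z n g).hom p = q := by
  let ep := Equiv.ofBijective _ (enum_bijective p).2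
  let eq' := Equiv.ofBijective _ (enum_bijective q).2
  refine ⟨⟨ep.trans eq'.symm⟩, enum_ext fun i => ?_⟩
  obtain ⟨k, rfl⟩ := (ep.trans eq'.symm).surjective i
  rw [pmap_enumAct ⟨ep.trans eq'.symm⟩ p k]
  exact (eq'.apply_symm_apply (ep k)).symm

theorem eq_one_of_fixed (g : PermGrp.{u} n) (p : Fib ξ (enum Z n)) (h : pmap (enumAct Z n g).hom p = p) : g = 1 := by
  refine ULift.ext _ _ (Equiv.ext fun i => (enum_bijective p).2.1 ?_)
  have := pmap_enumAct g p i
  rw [h] at this
  exact this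

end Groth.Agent.FEtLib
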