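import Groth.Agent.FEtLib.Field

/-! The fundamental group of the spectrum of a field. -/

set_option autoImplicit false
universe u
open CategoryTheory CategoryTheory.Limits AlgebraicGeometry MorphismProperty CategoryTheory.PreGaloisCategory
open scoped FintypeCatDiscrete

noncomputable section

namespace Groth.Agent.FEtLib.FieldBase

variable (K : Type u) [Field K]

/-- The fibre functor at the algebraic closure. -/
abbrev F : FEt.Cat (Spec (CommRingCat.of K)) ⥤ FintypeCat.{u} := fibF (ξ K)

instance galoisCat : GaloisCategory (FEt.Cat (Spec (CommRingCat.of K))) :=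
  haveI : PreconnectedSpace (Spec (CommRingCat.of K)) :=
    inferInstanceAs (PreconnectedSpace (PrimeSpectrum K))
  galoisCategory (ξ K)

instance fibre : FiberFunctor (F K) :=
  haveI : PreconnectedSpace (Spec (CommRingCat.of K)) :=
    inferInstanceAs (PreconnectedSpace (PrimeSpectrum K))
  fiberFunctor (ξ K)

instance act (Y : FEt.Cat (Spec (CommRingCat.of K))) : MulAction (G K) ((F K).obj Y) := galAction Y

instance : CompactSpace (G K) := compactSpace K

instance fundamental : IsFundamentalGroup (F K) (G K) where
  naturality σ Y Z φ a := smul_pmap φ σ a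
  transitive_of_isGalois Y _ := ⟨fun a b => transitive_of_connected (Y := Y) a b⟩
  continuous_smul Y := by
    haveI : DiscreteTopology ((F K).obj Y) := ⟨rfl⟩
    exact continuousSMul_iff_stabilizer_isOpen.2 fun a => isOpen_stabilizer (Y := Y) a
  non_trivial' σ h := eq_one_of_trivial σ h

theorem nonempty_mulEquiv : Nonempty (G K ≃* FEt.piOne (Spec (CommRingCat.of K)) (ξ K)) :=
  let H := (Functor.FullyFaithful.ofFullyFaithful FintypeCat.incl.{u}).whiskeringRight (FEt.Cat (Spec (CommRingCat.of K)))
  ⟨(toAutMulEquiv (F K) (G K)).trans ((H.autMulEquivOfFullyFaithful (F K)).trans (fibFIso (ξ K)).conjAut)⟩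

theorem nonempty_equivalence : Nonempty (FEt.Cat (Spec (CommRingCat.of K)) ≌ ContAction FintypeCat.{u} (G K)) :=
  let f : G K ≃ₜ* Aut (F K) := { toAutMulEquiv (F K) (G K) with
    continuous_toFun := (toAutMulEquiv_isHomeomorph (F K) (G K)).continuous
    continuous_invFun := (toAutHomeo (F K) (G K)).symm.continuous.congr fun σ =>
      (toAutMulEquiv (F K) (G K)).injective (by
        rw [toAutMulEquiv_apply, ← toAutHomeo_apply, Homeomorph.apply_symm_apply]
        exact ((toAutMulEquiv (F K) (G K)).apply_symm_apply σ).symm) }
  ⟨(functorToContAction (F K)).asEquivalence.trans (ContAction.resEquiv _ f)⟩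

end Groth.Agent.FEtLib.FieldBase
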