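import Groth.Agent.FEtLib.SectionDescent
import Groth.Agent.FEtLib.FieldPi1
import Groth.Agent.GalFunc.Seq
import Groth.Prelude.Def_Pi1

/-! Covers of a geometrically connected scheme split by the algebraic closure come from the field. -/

set_option autoImplicit false
universe u
open CategoryTheory CategoryTheory.Limits AlgebraicGeometry MorphismProperty CategoryTheory.PreGaloisCategory

noncomputable section

namespace Groth.Agent.FEtLib

section

variable {X X' : Scheme.{u}} (r : X' ⟶ X) {K : Type u} [Field K] (ξ : Spec (CommRingCat.of K) ⟶ X')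

/-- The fibre functor of the target as a composite. -/
def bcFibIso : FEt.restrict r ⋙ fibF ξ ≅ fibF (ξ ≫ r) :=
  NatIso.ofComponents (fun Y => FintypeCat.equivEquivIso (bcEquiv r))
    fun φ => FintypeCat.hom_ext _ _ fun a => bcEquiv_pmap r φ a

theorem fiberFunctor_comp [IsAlgClosed K] [PreconnectedSpace X] [PreconnectedSpace X'] :
    FiberFunctor (FEt.restrict r ⋙ fibF ξ) := by
  haveI := preservesFiniteColimits r
  haveI : Functor.ReflectsIsomorphisms (fibF (ξ ≫ r)) := fibF_reflectsIsos (ξ ≫ r)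
  haveI : (FEt.restrict r ⋙ fibF ξ).ReflectsIsomorphisms := CategoryTheory.reflectsIsomorphisms_of_iso (bcFibIso r ξ).symm
  haveI : PreservesFiniteLimits (FEt.restrict r ⋙ fibF ξ) := comp_preservesFiniteLimits _ _
  haveI : PreservesFiniteColimits (FEt.restrict r ⋙ fibF ξ) := comp_preservesFiniteColimits _ _
  exact { preservesQuotientsByFiniteGroups := fun G _ _ => by
            obtain ⟨G', hg, hf, ⟨e⟩⟩ := Finite.exists_type_univ_nonempty_mulEquiv.{u, 0} G
            haveI := Fintype.ofFinite G'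
            exact preservesColimitsOfShape_of_equiv e.toSingleObjEquiv.symm _ }

end

namespace FieldBase

variable (k : Type u) [Field k] {X : Scheme.{u}} (f : X ⟶ Spec (CommRingCat.of k)) [CompactSpace X]

/-- Finitely many sections covering a cover over the algebraic closure. -/
theorem exists_surjective_of_sections (U : FEt.Cat X) (n : ℕ) (σ : Fin n → (pullback f (ξ k) ⟶ U.left))
    (hσ : ∀ i, σ i ≫ U.hom = pullback.fst f (ξ k)) (hcov : ∀ y : U.left, ∃ i, y ∈ Set.range (σ i)) :
    ∃ (V : FEt.Cat (Spec (CommRingCat.of k))) (e : (FEt.restrict f).obj V ⟶ U), Surjective e.left := by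
  choose L _ _ _ _ e he using fun i => exists_hom_of_section k f U (σ i) (hσ i)
  let V : Fin n → FEt.Cat (Spec (CommRingCat.of k)) := fun i => specCover k (L i)
  haveI := preservesCoproduct f V
  let e' : (FEt.restrict f).obj (∐ V) ⟶ U := inv (sigmaComparison (FEt.restrict f) V) ≫ Limits.Sigma.desc e
  refine ⟨∐ V, e', ⟨fun y => ?_⟩⟩
  obtain ⟨i, hi⟩ := hcov y
  obtain ⟨z, hz⟩ := he i hi
  refine ⟨((FEt.restrict f).map (Sigma.ι V i)).left z, ?_⟩
  have h : (FEt.restrict f).map (Sigma.ι V i) ≫ e' = e i := by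
    rw [← ι_comp_sigmaComparison, Category.assoc, IsIso.hom_inv_id_assoc, Limits.Sigma.ι_desc]
  rw [← hz, ← h]
  rfl

theorem exists_surjective_of_isSplit (U : FEt.Cat X)
    (hU : Pi1.IsSplit ((FEt.restrict (pullback.fst f (ξ k))).obj U)) :
    ∃ (V : FEt.Cat (Spec (CommRingCat.of k))) (e : (FEt.restrict f).obj V ⟶ U), Surjective e.left := by
  obtain ⟨ι, _, ⟨(e : pullback U.hom (pullback.fst f (ξ k)) ≅ ∐ fun _ : ι => pullback f (ξ k)), he⟩⟩ := hU
  let p : Fin (Nat.card ι) ≃ ι := (Finite.equivFin ι).symm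
  let u : U.left ⟶ X := U.hom
  let q : pullback u (pullback.fst f (ξ k)) ⟶ U.left := pullback.fst u _
  let σ : ι → (pullback f (ξ k) ⟶ U.left) := fun i => Sigma.ι (fun _ : ι => pullback f (ξ k)) i ≫ e.inv ≫ q
  haveI : Surjective (Spec.map (CommRingCat.ofHom (algebraMap k (Kb k)))) :=
    ⟨fun x => ⟨IsLocalRing.closedPoint (Kb k), subsingleton_base k _ _⟩⟩
  haveI : Surjective (pullback.fst f (ξ k)) := MorphismProperty.pullback_fst (P := @Surjective) _ _ inferInstance
  haveI : Surjective q := MorphismProperty.pullback_fst (P := @Surjective) _ _ inferInstance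
  refine exists_surjective_of_sections k f U _ (fun j => σ (p j)) (fun j => ?_) fun y => ?_
  · show (Sigma.ι (fun _ : ι => pullback f (ξ k)) (p j) ≫ e.inv ≫ q) ≫ u = _
    rw [Category.assoc, Category.assoc, pullback.condition]
    exact (congrArg (Sigma.ι (fun _ : ι => pullback f (ξ k)) (p j) ≫ ·) (Category.assoc _ _ _).symm).trans
      ((Category.assoc _ _ _).symm.trans ((congrArg (· ≫ pullback.fst f (ξ k)) (he (p j))).trans (Category.id_comp _)))
  · obtain ⟨z, rfl⟩ := q.surjective y
    obtain ⟨i, w, hw⟩ := (sigmaOpenCover (fun _ : ι => pullback f (ξ k))).exists_eq (e.hom z)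
    refine ⟨p.symm i, w, ?_⟩
    show (Sigma.ι (fun _ : ι => pullback f (ξ k)) (p (p.symm i)) ≫ e.inv ≫ q) w = q z
    rw [Equiv.apply_symm_apply, Scheme.Hom.comp_apply, Scheme.Hom.comp_apply]
    refine congrArg q ?_
    rw [show Sigma.ι (fun _ : ι => pullback f (ξ k)) i w = e.hom z from hw, ← Scheme.Hom.comp_apply, e.hom_inv_id]
    rfl

theorem exists_iso_of_section [ConnectedSpace ↥(pullback f (Spec.map (CommRingCat.ofHom (algebraMap k (AlgebraicClosure k)))))]
    (Y : FEt.Cat X) [ConnectedSpace Y.left] (σ : pullback f (ξ k) ⟶ Y.left) (hσ : σ ≫ Y.hom = pullback.fst f (ξ k)) :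
    ∃ S' : FEt.Cat (Spec (CommRingCat.of k)), Nonempty ((FEt.restrict f).obj S' ≅ Y) := by
  haveI hXc : ConnectedSpace ↥(pullback f (ξ k)) := ‹_›
  haveI : Surjective (pullback.fst f (ξ k)) := MorphismProperty.pullback_fst (P := @Surjective) _ _
    ⟨fun x => ⟨IsLocalRing.closedPoint (Kb k), subsingleton_base k _ _⟩⟩
  haveI : ConnectedSpace X :=
    (pullback.fst f (ξ k)).surjective.connectedSpace (pullback.fst f (ξ k)).continuous
  haveI : PreconnectedSpace (Spec (CommRingCat.of k)) := inferInstanceAs (PreconnectedSpace (PrimeSpectrum k))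
  obtain ⟨L, _, _, _, _, e, he⟩ := exists_hom_of_section k f Y σ hσ
  haveI : Surjective e.left := ⟨fun y => by
    have h := IsClopen.eq_univ ⟨e.left.isClosedMap.isClosed_range, e.left.isOpenMap.isOpen_range⟩
      ⟨σ hXc.toNonempty.some, he ⟨_, rfl⟩⟩
    exact (h ▸ Set.mem_univ y : y ∈ Set.range e.left)⟩
  obtain ⟨Ω, _, _, η, -⟩ := exists_base_point (X := X) (Classical.arbitrary X)
  haveI : GaloisCategory (FEt.Cat X) := galoisCategory η
  haveI := fiberFunctor η
  haveI := fiberFunctor_comp f η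
  haveI : FiberFunctor (𝟭 (FEt.Cat X) ⋙ fibF η) := inferInstanceAs (FiberFunctor (fibF η))
  haveI : FiberFunctor (FEt.restrict f ⋙ (𝟭 (FEt.Cat X) ⋙ fibF η)) :=
    inferInstanceAs (FiberFunctor (FEt.restrict f ⋙ fibF η))
  haveI := preservesFiniteColimits f
  obtain ⟨hfull, hfaith⟩ := fullyFaithful_structure k f
  have hsurj := GalFunc.surjective_of_full_faithful (FEt.restrict f) (𝟭 (FEt.Cat X) ⋙ fibF η)
  refine GalFunc.exists_iso_of_ker_trivial (FEt.restrict f) (𝟭 (FEt.Cat X)) (fibF η) hsurj Y fun g hg x => ?_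
  obtain ⟨y, rfl⟩ := pmap_surjective e (x : Fib η Y)
  show g • (𝟭 (FEt.Cat X) ⋙ fibF η).map e y = (𝟭 (FEt.Cat X) ⋙ fibF η).map e y
  rw [mulAction_naturality]
  refine congrArg _ ?_
  exact (congrArg (fun t => t • GalFunc.pt (FEt.restrict f) (𝟭 (FEt.Cat X) ⋙ fibF η) y)
    (MonoidHom.mem_ker.1 hg)).trans (one_smul _ _)

end FieldBase

end Groth.Agent.FEtLib
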