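import Groth.Agent.FEtLib.Colim
import Groth.Agent.FiberUnique

/-! The category of covers of a connected scheme is a Galois category. -/

set_option autoImplicit false
universe u
open CategoryTheory CategoryTheory.Limits AlgebraicGeometry MorphismProperty

noncomputable section

namespace Groth.Agent.FEtLib

variable {X : Scheme.{u}} {Y Z : FEt.Cat X}

/-- A subcover has a complement. -/
theorem exists_complement (i : Y ⟶ Z) [Mono i] :
    ∃ (W : FEt.Cat X) (w : W ⟶ Z), Nonempty (IsColimit (BinaryCofan.mk i w)) := by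
  let U : Z.left.Opens := ⟨(Set.range i.left)ᶜ, i.left.isClosedMap.isClosed_range.isOpen_compl⟩
  have hU : IsClosed (U : Set Z.left) := i.left.isOpenMap.isOpen_range.isClosed_compl
  let w := clopenPartι Z U hU
  refine ⟨_, w, ?_⟩
  let d : sum Y (clopenPart Z U hU) ⟶ Z := (sumIsColimit _ _).desc (BinaryCofan.mk i w)
  have hl : suml _ _ ≫ d = i := (sumIsColimit _ _).fac (BinaryCofan.mk i w) ⟨WalkingPair.left⟩
  have hr : sumr _ _ ≫ d = w := (sumIsColimit _ _).fac (BinaryCofan.mk i w) ⟨WalkingPair.right⟩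
  haveI : IsIso d := isIso_of_pmap_bijective d fun K _ _ ξ => by
    have hcases : ∀ a : Fib ξ (sum Y (clopenPart Z U hU)),
        (∃ b, pmap (suml _ _) b = a) ∨ ∃ c, pmap (sumr _ _) c = a := fun a => by
      rcases Set.mem_union _ _ _ |>.1 ((isCompl_range_inl_inr Y.left (clopenPart Z U hU).left).sup_eq_top.ge
        (Set.mem_univ (center a))) with h | h
      · exact Or.inl (exists_lift_of_mem_range (suml _ _) a h)
      · exact Or.inr (exists_lift_of_mem_range (sumr _ _) a h)
    have hne : ∀ (b : Fib ξ Y) (c : Fib ξ (clopenPart Z U hU)), pmap i b ≠ pmap w c := fun b c h => by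
      have h1 : center (pmap w c) ∈ U := center_clopenPart_mem c
      rw [← h, center_pmap] at h1
      exact h1 ⟨_, rfl⟩
    refine ⟨fun a a' h => ?_, fun z => ?_⟩
    · rcases hcases a with ⟨b, rfl⟩ | ⟨c, rfl⟩ <;> rcases hcases a' with ⟨b', rfl⟩ | ⟨c', rfl⟩ <;>
        simp only [← pmap_comp, hl, hr] at h
      · rw [pmap_injective i h]
      · exact (hne _ _ h).elim
      · exact (hne _ _ h.symm).elim
      · rw [pmap_injective (clopenPartι Z U hU) h]
    · by_cases hz : center z ∈ U
      · obtain ⟨c, hc⟩ := exists_lift_clopenPart U hU z hz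
        exact ⟨pmap (sumr _ _) c, by rw [← pmap_comp, hr]; exact hc⟩
      · obtain ⟨b, hb⟩ := exists_lift_of_mem_range i z (not_not.1 hz)
        exact ⟨pmap (suml _ _) b, by rw [← pmap_comp, hl]; exact hb⟩
  let e : sum Y (clopenPart Z U hU) ≅ Z := @asIso _ _ _ _ d inferInstance
  exact ⟨(sumIsColimit _ _).ofIsoColimit (BinaryCofan.ext e hl hr)⟩

theorem hasColimitsOfShape_singleObj (G : Type u) [Group G] [Finite G] :
    HasColimitsOfShape (SingleObj G) (FEt.Cat X) := by
  obtain ⟨G', hg, hf, ⟨e⟩⟩ := Finite.exists_type_univ_nonempty_mulEquiv.{u, 0} G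
  exact hasColimitsOfShape_of_equivalence e.toSingleObjEquiv.symm

instance preGalois : PreGaloisCategory (FEt.Cat X) where
  hasQuotientsByFiniteGroups G _ _ := hasColimitsOfShape_singleObj G
  monoInducesIsoOnDirectSummand i _ := exists_complement i

section Fibre

variable {K : Type u} [Field K] (ξ : Spec (CommRingCat.of K) ⟶ X)

/-- The fibre functor, valued in finite sets. -/
def fibF : FEt.Cat X ⥤ FintypeCat.{u} where
  obj Y := haveI := finite_fib ξ Y; FintypeCat.of (Fib ξ Y)
  map φ := FintypeCat.homMk (pmap φ)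
  map_id Y := FintypeCat.hom_ext _ _ fun a => pmap_id a
  map_comp φ ψ := FintypeCat.hom_ext _ _ fun a => pmap_comp φ ψ a

/-- Comparison with the given fibre functor. -/
def fibFIso : fibF ξ ⋙ FintypeCat.incl ≅ FEt.fiber ξ :=
  NatIso.ofComponents (fun Y => (fibEquiv ξ Y).toIso) fun φ => by ext a; rfl

/-- The fibre functor is corepresented. -/
def fibFIsoCoyoneda : fibF ξ ⋙ FintypeCat.incl ≅
    Over.forget FEt.prop.{u} ⊤ X ⋙ coyoneda.obj (Opposite.op (CategoryTheory.Over.mk ξ)) :=
  NatIso.ofComponents (fun Y => Iso.refl _) fun φ => by ext a; rfl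

instance : PreservesFiniteLimits (fibF ξ) where
  preservesFiniteLimits J _ _ := by
    haveI : PreservesLimitsOfShape J (fibF ξ ⋙ FintypeCat.incl) :=
      preservesLimitsOfShape_of_natIso (fibFIsoCoyoneda ξ).symm
    exact preservesLimitsOfShape_of_reflects_of_preserves (fibF ξ) FintypeCat.incl

variable [IsAlgClosed K]

theorem fibF_preservesCoproduct {ι : Type} [Finite ι] (F : ι → FEt.Cat X) :
    PreservesColimit (Discrete.functor F) (fibF ξ) := by
  refine preservesColimit_of_preserves_colimit_cocone (coproductIsCoproduct F) ?_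
  have key : ∀ (t : Cofan fun i => (fibF ξ).obj (F i)) (j i : ι) (c : Fib ξ (F j)) (b : Fib ξ (F i)),
      pmap (Sigma.ι F j) c = pmap (Sigma.ι F i) b → t.inj j c = t.inj i b := fun t j i c b h => by
    obtain rfl := pmap_ι_eq_iff F _ _ h
    rw [pmap_ι_injective F _ h]
  refine (isColimitMapCoconeCofanMkEquiv _ _ _).symm (mkCofanColimit _ (fun t => FintypeCat.homMk fun a =>
    t.inj (exists_pmap_ι F a).choose (exists_pmap_ι F a).choose_spec.choose) (fun t i => ?_) fun t m hm => ?_)
  · ext b
    exact key t _ _ _ b (exists_pmap_ι F (pmap (Sigma.ι F i) b)).choose_spec.choose_spec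
  · ext a
    conv_lhs => rw [← (exists_pmap_ι F a).choose_spec.choose_spec]
    exact congrArg (fun k : _ ⟶ t.pt => k (exists_pmap_ι F a).choose_spec.choose) (hm _)

theorem fibF_preservesCoequalizers : PreservesColimitsOfShape WalkingParallelPair (fibF ξ) := by
  refine ⟨fun {D} => ?_⟩
  suffices h : ∀ {A Z : FEt.Cat X} (f g : A ⟶ Z), PreservesColimit (parallelPair f g) (fibF ξ) by
    haveI := h (D.map WalkingParallelPairHom.left) (D.map WalkingParallelPairHom.right)
    exact preservesColimit_of_iso_diagram _ (diagramIsoParallelPair D).symm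
  intro A Z f g
  obtain ⟨Q, q, hq⟩ := exists_isGeomCoeq f g
  have hkey : ∀ (s : Cofork ((fibF ξ).map f) ((fibF ξ).map g)) (b a : Fib ξ Z), pmap q b = pmap q a → s.π b = s.π a := by
    intro s b a hab
    have h := (hq.2 K ξ b a).1 hab
    clear hab
    let P : Fib ξ Z → s.pt.obj := fun z => s.π z
    change P b = P a
    induction h with
    | rel x y h' =>
      obtain ⟨c, rfl, rfl⟩ := h'
      exact congrArg (fun k : _ ⟶ s.pt => k c) s.condition
    | refl x => rfl
    | symm x y _ ih => exact ih.symm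
    | trans x y z _ _ ih₁ ih₂ => exact ih₁.trans ih₂
  refine preservesColimit_of_preserves_colimit_cocone hq.isColimit
    ((isColimitMapCoconeCoforkEquiv (fibF ξ) hq.condition).symm
      (Cofork.IsColimit.mk _ (fun s => FintypeCat.homMk fun b => s.π (hq.1 K ξ b).choose)
        (fun s => ?_) fun s m hm => ?_))
  · ext a
    exact hkey s _ a (hq.1 K ξ (pmap q a)).choose_spec
  · ext b
    conv_lhs => rw [← (hq.1 K ξ b).choose_spec]
    exact congrArg (fun k : _ ⟶ s.pt => k (hq.1 K ξ b).choose) hm

instance : PreservesFiniteColimits (fibF ξ) := by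
  haveI := fibF_preservesCoequalizers ξ
  haveI : PreservesFiniteCoproducts (fibF ξ) := ⟨fun n => ⟨fun {D} =>
    haveI : PreservesColimit (Discrete.functor (D.obj ∘ Discrete.mk)) (fibF ξ) :=
      fibF_preservesCoproduct ξ (D.obj ∘ Discrete.mk)
    preservesColimit_of_iso_diagram _ Discrete.natIsoFunctor.symm⟩⟩
  exact preservesFiniteColimits_of_preservesCoequalizers_and_finiteCoproducts _

variable [PreconnectedSpace X]

omit [IsAlgClosed K] in
/-- Over a connected base all geometric fibres have the same cardinality. -/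
theorem card_fib_eq [IsAlgClosed K] (Y : FEt.Cat X) {L : Type u} [Field L] [IsAlgClosed L]
    (η : Spec (CommRingCat.of L) ⟶ X) : Nat.card (Fib η Y) = Nat.card (Fib ξ Y) := by
  obtain ⟨n, hn⟩ := exists_stratum Y (base ξ)
  have h : (stratum Y n : Set X) = Set.univ :=
    IsClopen.eq_univ ⟨isClosed_stratum Y n, (stratum Y n).2⟩ ⟨base ξ, hn⟩
  rw [mem_stratum_iff.1 hn, mem_stratum_iff.1 (show base η ∈ (stratum Y n : Set X) from h ▸ Set.mem_univ _)]

theorem pmap_bijective_of_bijective (φ : Y ⟶ Z) (h : Function.Bijective (pmap (ξ := ξ) φ)) {L : Type u} [Field L]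
    [IsAlgClosed L] (η : Spec (CommRingCat.of L) ⟶ X) : Function.Bijective (pmap (ξ := η) φ) := by
  haveI := finite_fib η Y
  haveI := finite_fib η Z
  have hι : Function.Bijective (pmap (ξ := ξ) (imageι φ)) := ⟨pmap_injective _, fun b => by
    obtain ⟨a, rfl⟩ := h.2 b
    exact ⟨pmap (toImage φ) a, by rw [← pmap_comp, toImage_ι]⟩⟩
  have hι' : Function.Bijective (pmap (ξ := η) (imageι φ)) :=
    (Nat.bijective_iff_injective_and_card _).2 ⟨pmap_injective _, by
      rw [card_fib_eq ξ (image φ) η, card_fib_eq ξ Z η, Nat.card_eq_of_bijective _ hι]⟩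
  refine (Nat.bijective_iff_surjective_and_card _).2 ⟨fun b => ?_, by
    rw [card_fib_eq ξ Y η, card_fib_eq ξ Z η, Nat.card_eq_of_bijective _ h]⟩
  obtain ⟨c, rfl⟩ := hι'.2 b
  obtain ⟨a, rfl⟩ := isSurjOnPoints_toImage φ L η c
  exact ⟨a, by rw [← pmap_comp, toImage_ι]⟩

theorem fibF_reflectsIsos : (fibF ξ).ReflectsIsomorphisms := ⟨fun φ hφ => by
  have h : Function.Bijective (pmap (ξ := ξ) φ) :=
    ConcreteCategory.bijective_of_isIso ((fibF ξ).map φ)
  exact isIso_of_pmap_bijective φ fun L _ _ η => pmap_bijective_of_bijective ξ φ h η⟩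

instance fiberFunctor : PreGaloisCategory.FiberFunctor (fibF ξ) :=
  haveI := fibF_reflectsIsos ξ
  { preservesQuotientsByFiniteGroups := fun G _ _ => by
      obtain ⟨G', hg, hf, ⟨e⟩⟩ := Finite.exists_type_univ_nonempty_mulEquiv.{u, 0} G
      haveI := Fintype.ofFinite G'
      exact preservesColimitsOfShape_of_equiv e.toSingleObjEquiv.symm (fibF ξ) }

include ξ in
theorem galoisCategory : GaloisCategory (FEt.Cat X) :=
  { preGalois with hasFiberFunctor := ⟨fibF ξ, ⟨fiberFunctor ξ⟩⟩ }

end Fibre

end Groth.Agent.FEtLib
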