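import Groth.Agent.FEtLib.Colim

/-! The cover of morphisms between two covers. -/

set_option autoImplicit false
universe u
open CategoryTheory CategoryTheory.Limits AlgebraicGeometry MorphismProperty

noncomputable section

namespace Groth.Agent.FEtLib

variable {X : Scheme.{u}} {U V W : FEt.Cat X} {K : Type u} [Field K] {ξ : Spec (CommRingCat.of K) ⟶ X}

/-- The point of a product with given coordinates. -/
def pair (w : Fib ξ W) (x : Fib ξ U) : Fib ξ (W ⨯ U) := (exists_fib_prod w x).choose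

theorem pair_fst (w : Fib ξ W) (x : Fib ξ U) : pmap prod.fst (pair w x) = w := (exists_fib_prod w x).choose_spec.1

theorem pair_snd (w : Fib ξ W) (x : Fib ξ U) : pmap prod.snd (pair w x) = x := (exists_fib_prod w x).choose_spec.2

theorem pair_eta (c : Fib ξ (W ⨯ U)) : pair (pmap prod.fst c) (pmap prod.snd c) = c :=
  fib_prod_ext (pair_fst _ _) (pair_snd _ _)

theorem pmap_lift {T : FEt.Cat X} (f : T ⟶ W) (g : T ⟶ U) (t : Fib ξ T) :
    pmap (prod.lift f g) t = pair (pmap f t) (pmap g t) :=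
  fib_prod_ext (by rw [← pmap_comp, prod.lift_fst, pair_fst]) (by rw [← pmap_comp, prod.lift_snd, pair_snd])

/-- Evaluation on a fibre. -/
def curryFib (e : W ⨯ U ⟶ V) (w : Fib ξ W) (x : Fib ξ U) : Fib ξ V := pmap e (pair w x)

/-- `e : W ⨯ U ⟶ V` makes `W` the cover of morphisms from `U` to `V`, on geometric fibres. -/
def IsInternalHom (e : W ⨯ U ⟶ V) : Prop :=
  ∀ (K : Type u) [Field K] [IsAlgClosed K] (ξ : Spec (CommRingCat.of K) ⟶ X),
    Function.Bijective (curryFib (ξ := ξ) e)

/-- The morphism given by a section. -/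
def toHom (e : W ⨯ U ⟶ V) (t : one X ⟶ W) : U ⟶ V := prod.lift (toOne U ≫ t) (𝟙 U) ≫ e

theorem pmap_toHom (e : W ⨯ U ⟶ V) (t : one X ⟶ W) (x : Fib ξ U) :
    pmap (toHom e t) x = curryFib e (pmap t (pmap (toOne U) x)) x := by
  rw [toHom, pmap_comp, pmap_lift, pmap_comp, pmap_id]
  rfl

/-- The point of the trivial cover. -/
def pt1 (ξ : Spec (CommRingCat.of K) ⟶ X) : Fib ξ (one X) := fibMk ξ (Category.comp_id ξ)

theorem toHom_injective {e : W ⨯ U ⟶ V} (he : IsInternalHom e) : Function.Injective (toHom e) := fun t t' h =>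
  hom_ext fun K _ _ ξ z => (he K ξ).1 (funext fun x => by
    rw [fib_one_subsingleton z (pmap (toOne U) x), ← pmap_toHom, ← pmap_toHom, h])

theorem toHom_surjective {e : W ⨯ U ⟶ V} (he : IsInternalHom e) : Function.Surjective (toHom e) := fun h => by
  let ι := equalizer.ι e (prod.snd ≫ h)
  let bad : (W ⨯ U).left.Opens := ⟨(Set.range ι.left)ᶜ, ι.left.isClosedMap.isClosed_range.isOpen_compl⟩
  have hbad : IsClosed (bad : Set (W ⨯ U).left) := ι.left.isOpenMap.isOpen_range.isClosed_compl
  let f : clopenPart (W ⨯ U) bad hbad ⟶ W := clopenPartι _ _ _ ≫ prod.fst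
  let good : W.left.Opens := ⟨(Set.range f.left)ᶜ, f.left.isClosedMap.isClosed_range.isOpen_compl⟩
  have hgood : IsClosed (good : Set W.left) := f.left.isOpenMap.isOpen_range.isClosed_compl
  have hb : ∀ (K : Type u) [Field K] [IsAlgClosed K] (ξ : Spec (CommRingCat.of K) ⟶ X) (w : Fib ξ W) (x : Fib ξ U),
      center (pair w x) ∈ bad ↔ curryFib e w x ≠ pmap h x := fun K _ _ ξ w x => by
    refine not_congr ⟨fun hm => ?_, fun heq => ?_⟩
    · obtain ⟨d, hd⟩ := exists_lift_of_mem_range ι _ hm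
      rw [curryFib, ← hd, ← pmap_comp, equalizer.condition, pmap_comp, hd, pmap_comp, pair_snd]
    · obtain ⟨d, hd⟩ := exists_fib_equalizer e (prod.snd ≫ h) (pair w x) (by rw [pmap_comp, pair_snd]; exact heq)
      exact ⟨center d, (center_pmap ι d).symm.trans (congrArg center hd)⟩
  have hg : ∀ (K : Type u) [Field K] [IsAlgClosed K] (ξ : Spec (CommRingCat.of K) ⟶ X) (w : Fib ξ W),
      center w ∈ good ↔ curryFib e w = fun x => pmap h x := fun K _ _ ξ w => by
    refine ⟨fun hm => funext fun x => ?_, fun heq hm => ?_⟩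
    · by_contra hne
      obtain ⟨d, hd⟩ := exists_lift_clopenPart bad hbad _ ((hb K ξ w x).2 hne)
      refine hm ⟨center d, ?_⟩
      rw [← center_pmap, pmap_comp, hd, pair_fst]
    · obtain ⟨d, hd⟩ := exists_lift_of_mem_range f w hm
      have h2 := center_clopenPart_mem d
      rw [← pair_eta (pmap (clopenPartι (W ⨯ U) bad hbad) d), hb] at h2
      exact h2 (by
        rw [show pmap prod.fst (pmap (clopenPartι (W ⨯ U) bad hbad) d) = w from (pmap_comp _ _ d).symm.trans hd, heq])
  haveI : IsIso (toOne (clopenPart W good hgood)) := isIso_of_pmap_bijective _ fun K _ _ ξ => by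
    refine ⟨fun a b _ => pmap_injective (clopenPartι W good hgood) ((he K ξ).1 ?_), fun z => ?_⟩
    · rw [(hg K ξ _).1 (center_clopenPart_mem a), (hg K ξ _).1 (center_clopenPart_mem b)]
    · obtain ⟨w, hw⟩ := (he K ξ).2 fun x => pmap h x
      obtain ⟨a, -⟩ := exists_lift_clopenPart good hgood w ((hg K ξ w).2 hw)
      exact ⟨a, fib_one_subsingleton _ _⟩
  refine ⟨inv (toOne (clopenPart W good hgood)) ≫ clopenPartι W good hgood, hom_ext fun K _ _ ξ x => ?_⟩
  rw [pmap_toHom, pmap_comp]
  exact congrFun ((hg K ξ _).1 (center_clopenPart_mem _)) x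

theorem toHom_bijective {e : W ⨯ U ⟶ V} (he : IsInternalHom e) : Function.Bijective (toHom e) :=
  ⟨toHom_injective he, toHom_surjective he⟩

end Groth.Agent.FEtLib
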