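import Groth.Agent.FEtLib.HomExist
import Groth.Agent.FEtLib.Restrict

/-! Base change of the cover of morphisms, and its sections. -/

set_option autoImplicit false
universe u
open CategoryTheory CategoryTheory.Limits AlgebraicGeometry MorphismProperty

noncomputable section

namespace Groth.Agent.FEtLib

variable {X X' : Scheme.{u}} (r : X' ⟶ X) {U V W : FEt.Cat X}

/-- Base change of an evaluation map. -/
def bcEval (e : W ⨯ U ⟶ V) : (FEt.restrict r).obj W ⨯ (FEt.restrict r).obj U ⟶ (FEt.restrict r).obj V :=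
  inv (prodComparison (FEt.restrict r) W U) ≫ (FEt.restrict r).map e

variable {K : Type u} [Field K] {ξ : Spec (CommRingCat.of K) ⟶ X'}

theorem bcEquiv_curryFib (e : W ⨯ U ⟶ V) (w : Fib ξ ((FEt.restrict r).obj W)) (x : Fib ξ ((FEt.restrict r).obj U)) :
    bcEquiv r (curryFib (bcEval r e) w x) = curryFib e (bcEquiv r w) (bcEquiv r x) := by
  rw [curryFib, bcEval, pmap_comp, bcEquiv_pmap, curryFib]
  congr 1
  refine fib_prod_ext ?_ ?_
  · rw [← bcEquiv_pmap, ← pmap_comp, inv_prodComparison_map_fst, pair_fst, pair_fst]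
  · rw [← bcEquiv_pmap, ← pmap_comp, inv_prodComparison_map_snd, pair_snd, pair_snd]

theorem IsInternalHom.restrict {e : W ⨯ U ⟶ V} (he : IsInternalHom e) : IsInternalHom (bcEval r e) :=
  fun K _ _ ξ => by
  refine ⟨fun w w' h => (bcEquiv r).injective ((he K (ξ ≫ r)).1 (funext fun x => ?_)), fun φ => ?_⟩
  · obtain ⟨x, rfl⟩ := (bcEquiv r).surjective x
    rw [← bcEquiv_curryFib, ← bcEquiv_curryFib, h]
  · obtain ⟨w, hw⟩ := (he K (ξ ≫ r)).2 fun x => bcEquiv r (φ ((bcEquiv r).symm x))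
    refine ⟨(bcEquiv r).symm w, funext fun x => (bcEquiv r).injective ?_⟩
    rw [bcEquiv_curryFib, Equiv.apply_symm_apply, hw]
    simp

/-- Sections of a base changed cover. -/
def sectionEquiv (W : FEt.Cat X) :
    {s : X' ⟶ W.left // s ≫ W.hom = r} ≃ (one X' ⟶ (FEt.restrict r).obj W) where
  toFun s := Over.homMk (pullback.lift s.1 (𝟙 X') (s.2.trans (Category.id_comp r).symm)) (pullback.lift_snd _ _ _) trivial
  invFun t := ⟨t.left ≫ pullback.fst W.hom r, (Category.assoc _ _ _).trans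
    ((congrArg (t.left ≫ ·) pullback.condition).trans
      ((Category.assoc _ _ _).symm.trans ((congrArg (· ≫ r) (Over.w t)).trans (Category.id_comp r))))⟩
  left_inv s := Subtype.ext (pullback.lift_fst _ _ _)
  right_inv t := by
    ext
    refine pullback.hom_ext (pullback.lift_fst _ _ _) ((pullback.lift_snd _ _ _).trans ?_)
    exact (Over.w t).symm

variable {r} in
theorem nonempty_sections_equiv {e : W ⨯ U ⟶ V} (he : IsInternalHom e) :
    Nonempty ({s : X' ⟶ W.left // s ≫ W.hom = r} ≃ ((FEt.restrict r).obj U ⟶ (FEt.restrict r).obj V)) :=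
  ⟨(sectionEquiv r W).trans (Equiv.ofBijective _ (toHom_bijective (he.restrict r)))⟩

/-- Base change is full if sections of covers descend. -/
theorem full_of_sections (h : ∀ (W : FEt.Cat X) (s : X' ⟶ W.left), s ≫ W.hom = r →
      ∃ t : X ⟶ W.left, t ≫ W.hom = 𝟙 X ∧ r ≫ t = s) : (FEt.restrict r).Full := ⟨fun {U V} φ => by
  obtain ⟨W, e, he⟩ := exists_internalHom U V
  obtain ⟨t', ht'⟩ := toHom_surjective (he.restrict r) φ
  let s := (sectionEquiv r W).symm t'
  obtain ⟨t, ht, hts⟩ := h W s.1 s.2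
  let τ : one X ⟶ W := Over.homMk t ht trivial
  refine ⟨toHom e τ, hom_ext fun K _ _ ξ a => (bcEquiv r).injective ?_⟩
  rw [bcEquiv_pmap, ← ht', pmap_toHom, pmap_toHom, bcEquiv_curryFib]
  congr 1
  refine fib_ext ?_
  let al : Spec (CommRingCat.of K) ⟶ ((FEt.restrict r).obj U).left := a.left
  show (bcEquiv r a).left ≫ U.hom ≫ t = (al ≫ ((FEt.restrict r).obj U).hom ≫ t'.left) ≫ pullback.fst W.hom r
  have hξ : al ≫ ((FEt.restrict r).obj U).hom = ξ := fib_w a
  have h2 : (bcEquiv r a).left ≫ U.hom = ξ ≫ r := fib_w (bcEquiv r a)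
  rw [← Category.assoc, h2, Category.assoc, hts]
  show ξ ≫ (t'.left ≫ pullback.fst W.hom r) = _
  rw [← hξ]
  simp only [Category.assoc]⟩

end Groth.Agent.FEtLib
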