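import Groth.Agent.FEtLib.Hom
import Groth.Agent.FEtLib.Coeq

/-! Existence of the cover of morphisms between two covers. -/

set_option autoImplicit false
universe u
open CategoryTheory CategoryTheory.Limits AlgebraicGeometry MorphismProperty

noncomputable section

namespace Groth.Agent.FEtLib

variable {X : Scheme.{u}} (U V : FEt.Cat X) (n m : ℕ)

/-- The product of the two covers of enumerations. -/
abbrev enum₂ : FEt.Cat X := enum U n ⨯ enum V m

/-- The product of the two permutation groups. -/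
abbrev Perm₂ : Type u := PermGrp.{u} n × PermGrp.{u} m

/-- Enumerations with a map of indices. -/
abbrev mapped : FEt.Cat X := ∐ fun _ : Fin n → Fin m => enum₂ U V n m

/-- Transporting a map of indices. -/
def transport (g : Perm₂.{u} n m) (h : Fin n → Fin m) : Fin n → Fin m := fun i => g.2.down (h (g.1.down.symm i))

theorem transport_mul (g g' : Perm₂.{u} n m) (h : Fin n → Fin m) :
    transport n m (g * g') h = transport n m g (transport n m g' h) := rfl

theorem transport_one (h : Fin n → Fin m) : transport n m (1 : Perm₂.{u} n m) h = h := rfl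

/-- The action on enumerations with a map. -/
def mappedPerm (g : Perm₂.{u} n m) : mapped U V n m ⟶ mapped U V n m :=
  Limits.Sigma.desc fun h => prod.map (enumAct U n g.1).hom (enumAct V m g.2).hom ≫
    Sigma.ι (fun _ : Fin n → Fin m => enum₂ U V n m) (transport n m g h)

theorem ι_mappedPerm (g : Perm₂.{u} n m) (h : Fin n → Fin m) :
    Sigma.ι (fun _ : Fin n → Fin m => enum₂ U V n m) h ≫ mappedPerm U V n m g =
      prod.map (enumAct U n g.1).hom (enumAct V m g.2).hom ≫
        Sigma.ι (fun _ : Fin n → Fin m => enum₂ U V n m) (transport n m g h) :=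
  Limits.Sigma.ι_desc _ _

theorem mappedPerm_mul (g g' : Perm₂.{u} n m) :
    mappedPerm U V n m (g * g') = mappedPerm U V n m g' ≫ mappedPerm U V n m g :=
  Limits.Sigma.hom_ext _ _ fun h => by
    rw [← Category.assoc, ι_mappedPerm, ι_mappedPerm, Category.assoc, ι_mappedPerm, ← Category.assoc, prod.map_map,
      Prod.fst_mul, Prod.snd_mul, map_mul, map_mul, transport_mul]
    rfl

theorem mappedPerm_one : mappedPerm U V n m 1 = 𝟙 _ :=
  Limits.Sigma.hom_ext _ _ fun h => by
    rw [ι_mappedPerm, Prod.fst_one, Prod.snd_one, map_one, map_one, transport_one]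
    show prod.map (𝟙 _) (𝟙 _) ≫ _ = _
    rw [prod.map_id_id, Category.id_comp, Category.comp_id]

/-- The action on enumerations with a map. -/
def mappedAct : Perm₂.{u} n m →* Aut (mapped U V n m) where
  toFun g := ⟨mappedPerm U V n m g, mappedPerm U V n m g⁻¹,
    by rw [← mappedPerm_mul, inv_mul_cancel, mappedPerm_one], by rw [← mappedPerm_mul, mul_inv_cancel, mappedPerm_one]⟩
  map_one' := Iso.ext (mappedPerm_one U V n m)
  map_mul' a b := Iso.ext (mappedPerm_mul U V n m a b)

variable {U V n m} {K : Type u} [Field K] {ξ : Spec (CommRingCat.of K) ⟶ X}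

/-- A point of `mapped`. -/
def mpt (r : Fib ξ (enum₂ U V n m)) (h : Fin n → Fin m) : Fib ξ (mapped U V n m) :=
  pmap (Sigma.ι (fun _ : Fin n → Fin m => enum₂ U V n m) h) r

theorem pmap_mappedAct (g : Perm₂.{u} n m) (r : Fib ξ (enum₂ U V n m)) (h : Fin n → Fin m) :
    pmap (mappedAct U V n m g).hom (mpt r h) =
      mpt (pmap (prod.map (enumAct U n g.1).hom (enumAct V m g.2).hom) r) (transport n m g h) := by
  rw [mpt, mpt, ← pmap_comp, ← pmap_comp]
  exact congrArg (pmap · r) (ι_mappedPerm U V n m g h)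

variable (U V n m)

theorem exists_stratum_hom : ∃ (W : FEt.Cat X) (e : W ⨯ U ⟶ V),
    (∀ y : W.left, W.hom y ∈ stratum U n ⊓ stratum V m) ∧
    ∀ (K : Type u) [Field K] [IsAlgClosed K] (ξ : Spec (CommRingCat.of K) ⟶ X),
      base ξ ∈ stratum U n ⊓ stratum V m → Function.Bijective (curryFib (ξ := ξ) e) := by
  obtain ⟨W, q, hq⟩ := exists_isGeomQuot (mappedAct U V n m)
  have hW : ∀ (K : Type u) [Field K] [IsAlgClosed K] (ξ : Spec (CommRingCat.of K) ⟶ X) (w : Fib ξ W),
      ∃ r h, pmap q (mpt r h) = w := fun K _ _ ξ w => by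
    obtain ⟨c, rfl⟩ := hq.surj K ξ w
    obtain ⟨h, r, rfl⟩ := exists_pmap_ι _ c
    exact ⟨r, h, rfl⟩
  have hbase : ∀ (K : Type u) [Field K] [IsAlgClosed K] (ξ : Spec (CommRingCat.of K) ⟶ X) (w : Fib ξ W),
      base ξ ∈ stratum U n ⊓ stratum V m := fun K _ _ ξ w => by
    obtain ⟨r, h, -⟩ := hW K ξ w
    exact ⟨(enum_bijective (pmap prod.fst r)).1, (enum_bijective (pmap prod.snd r)).1⟩
  let D := ∐ fun _ : (Fin n → Fin m) × Fin n => enum₂ U V n m
  let toWU : D ⟶ W ⨯ U := Limits.Sigma.desc fun p =>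
    prod.lift (Sigma.ι (fun _ : Fin n → Fin m => enum₂ U V n m) p.1 ≫ q) (prod.fst ≫ ev U n p.2)
  let toV : D ⟶ V := Limits.Sigma.desc fun p => prod.snd ≫ ev V m (p.1 p.2)
  have hWU : ∀ (K : Type u) [Field K] [IsAlgClosed K] (ξ : Spec (CommRingCat.of K) ⟶ X) (h : Fin n → Fin m) (i : Fin n)
      (r : Fib ξ (enum₂ U V n m)), pmap toWU (pmap (Sigma.ι (fun _ => enum₂ U V n m) (h, i)) r) =
        pair (pmap q (mpt r h)) (pmap (ev U n i) (pmap prod.fst r)) := fun K _ _ ξ h i r => by
    rw [← pmap_comp, Limits.Sigma.ι_desc, pmap_lift, pmap_comp, pmap_comp]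
    rfl
  have hsurj : IsSurjOnPoints toWU := fun K _ _ ξ c => by
    obtain ⟨r, h, hr⟩ := hW K ξ (pmap prod.fst c)
    obtain ⟨i, hi⟩ := (enum_bijective (pmap prod.fst r)).2.2 (pmap prod.snd c)
    refine ⟨pmap (Sigma.ι (fun _ => enum₂ U V n m) (h, i)) r, ?_⟩
    rw [hWU]
    exact (congrArg₂ pair hr hi).trans (pair_eta c)
  obtain ⟨e, he⟩ := exists_desc hsurj toV fun K _ _ ξ a b hab => by
    obtain ⟨⟨h, i⟩, r, rfl⟩ := exists_pmap_ι _ a
    obtain ⟨⟨h', i'⟩, r', rfl⟩ := exists_pmap_ι _ b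
    rw [hWU, hWU] at hab
    have hw := congrArg (pmap prod.fst) hab
    have hx := congrArg (pmap prod.snd) hab
    rw [pair_fst, pair_fst] at hw
    rw [pair_snd, pair_snd] at hx
    obtain ⟨g, hg⟩ := hq.trans K ξ _ _ hw
    rw [pmap_mappedAct] at hg
    obtain rfl := pmap_ι_eq_iff (fun _ : Fin n → Fin m => enum₂ U V n m) _ _ hg
    obtain rfl := pmap_ι_injective (fun _ : Fin n → Fin m => enum₂ U V n m) _ hg
    have h1 : pmap prod.fst (pmap (prod.map (enumAct U n g.1).hom (enumAct V m g.2).hom) r) =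
        pmap (enumAct U n g.1).hom (pmap prod.fst r) := by rw [← pmap_comp, prod.map_fst, pmap_comp]
    have h2 : pmap prod.snd (pmap (prod.map (enumAct U n g.1).hom (enumAct V m g.2).hom) r) =
        pmap (enumAct V m g.2).hom (pmap prod.snd r) := by rw [← pmap_comp, prod.map_snd, pmap_comp]
    rw [h1, ← pmap_enumAct g.1 (pmap prod.fst r) i] at hx
    obtain rfl := (enum_bijective _).2.1 hx
    rw [← pmap_comp, ← pmap_comp, Limits.Sigma.ι_desc, Limits.Sigma.ι_desc, pmap_comp, pmap_comp, h2]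
    show _ = pmap (ev V m (transport n m g h (g.1.down i))) _
    rw [show transport n m g h (g.1.down i) = g.2.down (h i) by rw [transport, Equiv.symm_apply_apply]]
    exact (pmap_enumAct g.2 _ (h i)).symm
  have hval : ∀ (K : Type u) [Field K] [IsAlgClosed K] (ξ : Spec (CommRingCat.of K) ⟶ X) (h : Fin n → Fin m) (i : Fin n)
      (r : Fib ξ (enum₂ U V n m)), curryFib e (pmap q (mpt r h)) (pmap (ev U n i) (pmap prod.fst r)) =
        pmap (ev V m (h i)) (pmap prod.snd r) := fun K _ _ ξ h i r => by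
    rw [curryFib, ← hWU, ← pmap_comp, he, ← pmap_comp, Limits.Sigma.ι_desc, pmap_comp]
  refine ⟨W, e, fun y => ?_, fun K _ _ ξ hξ => ?_⟩
  · obtain ⟨K, _, _, ξ, w, rfl⟩ := exists_point y
    rw [hom_center]
    exact hbase K ξ w
  · obtain ⟨eU⟩ := exists_fin_equiv hξ.1
    obtain ⟨eV⟩ := exists_fin_equiv hξ.2
    obtain ⟨p, hp⟩ := exists_enum hξ.1 eU
    obtain ⟨p', hp'⟩ := exists_enum hξ.2 eV
    refine ⟨fun w w' hww => ?_, fun φ => ?_⟩
    · obtain ⟨r, h, rfl⟩ := hW K ξ w
      obtain ⟨r', h', rfl⟩ := hW K ξ w'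
      obtain ⟨g₁, hg₁⟩ := exists_enumAct (pmap prod.fst r') (pmap prod.fst r)
      obtain ⟨g₂, hg₂⟩ := exists_enumAct (pmap prod.snd r') (pmap prod.snd r)
      have hr : pmap (prod.map (enumAct U n g₁).hom (enumAct V m g₂).hom) r' = r := fib_prod_ext
        (by rw [← pmap_comp, prod.map_fst, pmap_comp, hg₁]) (by rw [← pmap_comp, prod.map_snd, pmap_comp, hg₂])
      have hq' : pmap q (mpt r (transport n m (g₁, g₂) h')) = pmap q (mpt r' h') := by
        conv_lhs => rw [← hr]
        rw [← pmap_mappedAct (g₁, g₂), ← pmap_comp, hq.inv]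
      rw [← hq'] at hww ⊢
      have hh : h = transport n m (g₁, g₂) h' := funext fun i => by
        have := congrFun hww (pmap (ev U n i) (pmap prod.fst r))
        rw [hval, hval] at this
        exact (enum_bijective (pmap prod.snd r)).2.1 this
      rw [hh]
    · refine ⟨pmap q (mpt (pair p p') fun i => eV.symm (φ (eU i))), funext fun x => ?_⟩
      obtain ⟨i, rfl⟩ := eU.surjective x
      have := hval K ξ (fun i => eV.symm (φ (eU i))) i (pair p p')
      rw [pair_fst, pair_snd, hp, hp', Equiv.apply_symm_apply] at this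
      exact this

theorem exists_internalHom : ∃ (W : FEt.Cat X) (e : W ⨯ U ⟶ V), IsInternalHom e := by
  choose Wp ep hmem hbij using fun p : ℕ × ℕ => exists_stratum_hom U V p.1 p.2
  let ι := ULift.{u} (ℕ × ℕ)
  let S : ι → X.Opens := fun i => stratum U i.down.1 ⊓ stratum V i.down.2
  have hd : ∀ i j x, x ∈ S i → x ∈ S j → i = j := fun i j x hi hj =>
    ULift.ext _ _ (Prod.ext (stratum_disjoint hi.1 hj.1) (stratum_disjoint hi.2 hj.2))
  have hc : ∀ x, ∃ i, x ∈ S i := fun x =>
    ⟨⟨(exists_stratum U x).choose, (exists_stratum V x).choose⟩, (exists_stratum U x).choose_spec,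
      (exists_stratum V x).choose_spec⟩
  obtain ⟨W, inc, hinc, hcov, -⟩ := exists_sum_of_partition S hd hc (fun i => Wp i.down) fun i y => hmem i.down y
  obtain ⟨D, incD, hincD, hcovD, hdesc⟩ := exists_sum_of_partition S hd hc (fun i => Wp i.down ⨯ U) fun i y => by
    rw [← mem_of_hom (prod.fst : Wp i.down ⨯ U ⟶ Wp i.down) y]
    exact hmem i.down _
  obtain ⟨d, hd'⟩ := hdesc (W ⨯ U) fun i => prod.map (inc i) (𝟙 U)
  obtain ⟨v, hv⟩ := hdesc V fun i => ep i.down
  have hfac : ∀ (K : Type u) [Field K] [IsAlgClosed K] (ξ : Spec (CommRingCat.of K) ⟶ X) (w : Fib ξ W),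
      ∃ i w', pmap (inc i) w' = w ∧ base ξ ∈ S i := fun K _ _ ξ w => by
    obtain ⟨i, hi⟩ := hcov (center w)
    obtain ⟨w', rfl⟩ := exists_lift_of_mem_range (inc i) w hi
    exact ⟨i, w', rfl, hom_center w' ▸ hmem i.down _⟩
  have hmap : ∀ (K : Type u) [Field K] (ξ : Spec (CommRingCat.of K) ⟶ X) (i : ι) (w : Fib ξ (Wp i.down)) (x : Fib ξ U),
      pmap d (pmap (incD i) (pair w x)) = pair (pmap (inc i) w) x := fun K _ ξ i w x => by
    rw [← pmap_comp, hd']
    exact fib_prod_ext (by rw [← pmap_comp, prod.map_fst, pmap_comp, pair_fst, pair_fst])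
      (by rw [← pmap_comp, prod.map_snd, pmap_comp, pair_snd, pair_snd, pmap_id])
  haveI : IsIso d := isIso_of_pmap_bijective d fun K _ _ ξ => by
    refine ⟨fun a b hab => ?_, fun c => ?_⟩
    · obtain ⟨i, hi⟩ := hcovD (center a)
      obtain ⟨j, hj⟩ := hcovD (center b)
      obtain ⟨a, rfl⟩ := exists_lift_of_mem_range (incD i) a hi
      obtain ⟨b, rfl⟩ := exists_lift_of_mem_range (incD j) b hj
      rw [← pair_eta a, ← pair_eta b] at hab ⊢
      have ha : base ξ ∈ S i := hom_center (pmap prod.fst a) ▸ hmem i.down _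
      have hb : base ξ ∈ S j := hom_center (pmap prod.fst b) ▸ hmem j.down _
      obtain rfl := hd i j _ ha hb
      rw [hmap, hmap] at hab
      have h1 := congrArg (pmap prod.fst) hab
      have h2 := congrArg (pmap prod.snd) hab
      rw [pair_fst, pair_fst] at h1
      rw [pair_snd, pair_snd] at h2
      rw [pmap_injective (inc i) h1, h2]
    · obtain ⟨i, w', hw', -⟩ := hfac K ξ (pmap prod.fst c)
      exact ⟨pmap (incD i) (pair w' (pmap prod.snd c)), by rw [hmap, hw', pair_eta]⟩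
  refine ⟨W, inv d ≫ v, fun K _ _ ξ => ?_⟩
  have hev : ∀ (i : ι) (w : Fib ξ (Wp i.down)) (x : Fib ξ U),
      curryFib (inv d ≫ v) (pmap (inc i) w) x = curryFib (ep i.down) w x := fun i w x => by
    rw [curryFib, ← hmap, ← pmap_comp, IsIso.hom_inv_id_assoc, ← pmap_comp, hv]
    rfl
  obtain ⟨i, hi⟩ := hc (base ξ)
  have hb := hbij i.down K ξ hi
  have hrep : ∀ w : Fib ξ W, ∃ w', pmap (inc i) w' = w := fun w => by
    obtain ⟨j, w', hw', hj⟩ := hfac K ξ w
    obtain rfl := hd j i _ hj hi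
    exact ⟨w', hw'⟩
  refine ⟨fun w w' h => ?_, fun φ => ?_⟩
  · obtain ⟨a, rfl⟩ := hrep w
    obtain ⟨b, rfl⟩ := hrep w'
    have e : curryFib (ep i.down) a = curryFib (ep i.down) b :=
      funext fun x => ((hev i a x).symm.trans (congrFun h x)).trans (hev i b x)
    rw [hb.1 e]
  · obtain ⟨a, ha⟩ := hb.2 φ
    exact ⟨pmap (inc i) a, funext fun x => by rw [hev, ha]⟩

end Groth.Agent.FEtLib
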