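import Groth.Agent.FEtLib.Basic
import Groth.Agent.QuotLib.GeomLift

/-! Geometric points of finite étale covers. -/

set_option autoImplicit false
universe u
open CategoryTheory CategoryTheory.Limits AlgebraicGeometry MorphismProperty

noncomputable section

namespace Groth.Agent.FEtLib

variable {X : Scheme.{u}}

/-- The underlying scheme over `X`. -/
abbrev toOver (Y : FEt.Cat X) : CategoryTheory.Over X := (Over.forget FEt.prop.{u} ⊤ X).obj Y

variable {K : Type u} [Field K] {ξ : Spec (CommRingCat.of K) ⟶ X} {Y Z W : FEt.Cat X}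

/-- The points of a cover above a field-valued point. -/
abbrev Fib (ξ : Spec (CommRingCat.of K) ⟶ X) (Y : FEt.Cat X) : Type u := CategoryTheory.Over.mk ξ ⟶ toOver Y

/-- Functoriality of points. -/
abbrev pmap (φ : Y ⟶ Z) (a : Fib ξ Y) : Fib ξ Z := a ≫ (Over.forget FEt.prop.{u} ⊤ X).map φ

theorem pmap_left (φ : Y ⟶ Z) (a : Fib ξ Y) : (pmap φ a).left = a.left ≫ φ.left := rfl

theorem pmap_comp (φ : Y ⟶ Z) (ψ : Z ⟶ W) (a : Fib ξ Y) : pmap (φ ≫ ψ) a = pmap ψ (pmap φ a) := by
  show a ≫ (Over.forget FEt.prop.{u} ⊤ X).map (φ ≫ ψ) = (a ≫ _) ≫ _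
  rw [Functor.map_comp]
  exact (Category.assoc _ _ _).symm

theorem pmap_id (a : Fib ξ Y) : pmap (𝟙 Y) a = a := by
  show a ≫ (Over.forget FEt.prop.{u} ⊤ X).map (𝟙 Y) = a
  rw [CategoryTheory.Functor.map_id]
  exact Category.comp_id _

theorem fib_w (a : Fib ξ Y) : a.left ≫ Y.hom = ξ := CategoryTheory.Over.w a

theorem fib_ext {a b : Fib ξ Y} (h : a.left = b.left) : a = b := CategoryTheory.Over.OverMorphism.ext h

/-- A point from a morphism. -/
def fibMk (s : Spec (CommRingCat.of K) ⟶ Y.left) (h : s ≫ Y.hom = ξ) : Fib ξ Y := CategoryTheory.Over.homMk s h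

theorem fibMk_left (s : Spec (CommRingCat.of K) ⟶ Y.left) (h : s ≫ Y.hom = ξ) : (fibMk s h).left = s := rfl

/-- Points of a cover as sections. -/
def fibEquiv (ξ : Spec (CommRingCat.of K) ⟶ X) (Y : FEt.Cat X) : Fib ξ Y ≃ FEt.fiberObj ξ Y where
  toFun a := ⟨a.left, fib_w a⟩
  invFun s := fibMk s.1 s.2
  left_inv a := fib_ext rfl
  right_inv s := rfl

/-- The point of the scheme under a field-valued point. -/
def center (a : Fib ξ Y) : Y.left := a.left (IsLocalRing.closedPoint K)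

theorem center_pmap (φ : Y ⟶ Z) (a : Fib ξ Y) : center (pmap φ a) = φ.left (center a) := by
  show (a.left ≫ φ.left) _ = _
  rw [Scheme.Hom.comp_apply]
  rfl

theorem pmap_injective (φ : Y ⟶ Z) [Mono φ] : Function.Injective (pmap (ξ := ξ) φ) := fun _ _ h =>
  (cancel_mono ((Over.forget FEt.prop.{u} ⊤ X).map φ)).1 h

theorem exists_point (y : Y.left) : ∃ (K : Type u) (_ : Field K) (_ : IsAlgClosed K)
    (ξ : Spec (CommRingCat.of K) ⟶ X) (a : Fib ξ Y), center a = y := by
  obtain ⟨K, iK, iC, ω, hω⟩ := QuotLib.exists_geom_point y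
  exact ⟨K, iK, iC, ω ≫ Y.hom, fibMk ω rfl, hω⟩

theorem finite_fib (ξ : Spec (CommRingCat.of K) ⟶ X) (Y : FEt.Cat X) : Finite (Fib ξ Y) := by
  let P := pullback Y.hom ξ
  haveI : IsAffine P := isAffine_of_isAffineHom (pullback.snd Y.hom ξ)
  let φ : CommRingCat.of K ⟶ Γ(P, ⊤) := (Scheme.ΓSpecIso _).inv ≫ (pullback.snd Y.hom ξ).appTop
  have hfin : φ.hom.Finite := RingHom.Finite.comp (pullback.snd Y.hom ξ).finite_appTop
    (RingHom.Finite.of_surjective _ (ConcreteCategory.bijective_of_isIso (Scheme.ΓSpecIso _).inv).2)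
  letI := φ.hom.toAlgebra
  haveI : Module.Finite K Γ(P, ⊤) := hfin
  let sec : Fib ξ Y → (Spec (CommRingCat.of K) ⟶ P) := fun a =>
    pullback.lift a.left (𝟙 _) ((fib_w a).trans (Category.id_comp _).symm)
  let ev : Fib ξ Y → (Γ(P, ⊤) →ₐ[K] K) := fun a =>
    { ((sec a).appTop ≫ (Scheme.ΓSpecIso _).hom).hom with
      commutes' := fun r => by
        have h : φ ≫ (sec a).appTop ≫ (Scheme.ΓSpecIso _).hom = 𝟙 _ := by
          simp only [φ, Category.assoc]
          rw [← Category.assoc (pullback.snd Y.hom ξ).appTop, ← Scheme.Hom.comp_appTop, pullback.lift_snd]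
          simp
        exact congrArg (fun k : _ ⟶ _ => CommRingCat.Hom.hom k r) h }
  refine Finite.of_injective ev fun a b hab => fib_ext ?_
  have h1 : sec a = sec b := by
    refine ext_of_isAffine ?_
    rw [← cancel_mono (Scheme.ΓSpecIso (CommRingCat.of K)).hom]
    exact CommRingCat.hom_ext (RingHom.ext fun x => congrArg (fun k : Γ(P, ⊤) →ₐ[K] K => k x) hab)
  exact ((pullback.lift_fst _ _ _).symm.trans (congrArg (· ≫ pullback.fst Y.hom ξ) h1)).trans (pullback.lift_fst _ _ _)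

variable [IsAlgClosed K]

/-- Points lift along a morphism over their image. -/
theorem exists_lift_of_mem_range (φ : Y ⟶ Z) (b : Fib ξ Z) (h : center b ∈ Set.range φ.left) :
    ∃ a, pmap φ a = b := by
  let bl : Spec (CommRingCat.of K) ⟶ Z.left := b.left
  haveI : Surjective (pullback.snd φ.left bl) := ⟨fun s => by
    obtain ⟨y, hy⟩ := h
    obtain ⟨z, -, hz⟩ := Scheme.Pullback.exists_preimage_pullback (f := φ.left) (g := bl) y (IsLocalRing.closedPoint K) hy
    exact ⟨z, (Subsingleton.elim _ _ : (pullback.snd φ.left bl) z = s)⟩⟩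
  obtain ⟨s, hs⟩ := QuotLib.exists_lift_geom (pullback.snd φ.left bl) (𝟙 _)
  have h2 : (s ≫ pullback.fst φ.left bl) ≫ φ.left = bl := by
    rw [Category.assoc, pullback.condition, ← Category.assoc, hs, Category.id_comp]
  refine ⟨fibMk (s ≫ pullback.fst φ.left bl) ?_, fib_ext h2⟩
  calc (s ≫ pullback.fst φ.left bl) ≫ Y.hom = (s ≫ pullback.fst φ.left bl) ≫ φ.left ≫ Z.hom :=
        congrArg (fun k => (s ≫ pullback.fst φ.left bl) ≫ k) (Over.w φ).symm
    _ = bl ≫ Z.hom := (Category.assoc _ _ _).symm.trans (congrArg (· ≫ Z.hom) h2)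
    _ = ξ := fib_w b

theorem pmap_surjective (φ : Y ⟶ Z) [Surjective φ.left] : Function.Surjective (pmap (ξ := ξ) φ) :=
  fun b => exists_lift_of_mem_range φ b (φ.left.surjective _)

omit [Field K] [IsAlgClosed K] in
theorem surjective_of_pmap (φ : Y ⟶ Z)
    (h : ∀ (K : Type u) [Field K] [IsAlgClosed K] (ξ : Spec (CommRingCat.of K) ⟶ X),
      Function.Surjective (pmap (ξ := ξ) φ)) : Surjective φ.left := ⟨fun z => by
  obtain ⟨K, _, _, ξ, b, rfl⟩ := exists_point z
  obtain ⟨a, rfl⟩ := h K ξ b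
  exact ⟨center a, (center_pmap φ a).symm⟩⟩

omit [Field K] [IsAlgClosed K] in
/-- A morphism bijective on geometric points is an isomorphism. -/
theorem isIso_of_pmap_bijective (φ : Y ⟶ Z)
    (h : ∀ (K : Type u) [Field K] [IsAlgClosed K] (ξ : Spec (CommRingCat.of K) ⟶ X),
      Function.Bijective (pmap (ξ := ξ) φ)) : IsIso φ := by
  haveI : IsIso φ.left := by
    refine QuotLib.isIso_of_etale_of_geom_bijective φ.left (fun K _ _ z => ?_) (fun K _ _ a b hab => ?_)
    · obtain ⟨a, ha⟩ := (h K (z ≫ Z.hom)).2 (fibMk z rfl)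
      exact ⟨a.left, congrArg (fun c : Fib _ Z => c.left) ha⟩
    · have hb : b ≫ Y.hom = a ≫ Y.hom := by
        rw [← Over.w φ]; exact ((Category.assoc _ _ _).symm.trans (congrArg (· ≫ Z.hom) hab.symm)).trans (Category.assoc _ _ _)
      exact congrArg (fun c : Fib _ Y => c.left) ((h K (a ≫ Y.hom)).1 (a₁ := fibMk a rfl) (a₂ := fibMk b hb)
        (fib_ext hab))
  exact isIso_of_isIso_left φ

/-- The range of a morphism of covers, as an open. -/
def rangeOpen (φ : Y ⟶ Z) : Z.left.Opens := ⟨Set.range φ.left, φ.left.isOpenMap.isOpen_range⟩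

/-- The image of a morphism, as a clopen part. -/
def image (φ : Y ⟶ Z) : FEt.Cat X :=
  clopenPart Z (rangeOpen φ) φ.left.isClosedMap.isClosed_range

/-- The inclusion of the image. -/
def imageι (φ : Y ⟶ Z) : image φ ⟶ Z := clopenPartι Z _ _

instance mono_clopenPartι (U : Y.left.Opens) (hU : IsClosed (U : Set Y.left)) : Mono (clopenPartι Y U hU) :=
  haveI : Mono (((Over.forget FEt.prop.{u} ⊤ X).map (clopenPartι Y U hU)).left) :=
    inferInstanceAs (Mono U.ι)
  haveI : Mono ((Over.forget FEt.prop.{u} ⊤ X).map (clopenPartι Y U hU)) :=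
    CategoryTheory.Over.mono_of_mono_left _
  (Over.forget FEt.prop.{u} ⊤ X).mono_of_mono_map this

instance (φ : Y ⟶ Z) : Mono (imageι φ) := mono_clopenPartι _ _

theorem range_le (φ : Y ⟶ Z) : Set.range φ.left ⊆ Set.range (rangeOpen φ).ι := by
  rw [Scheme.Opens.range_ι]; rfl

/-- The map to the image, on schemes. -/
def toRange (φ : Y ⟶ Z) : Y.left ⟶ (rangeOpen φ).toScheme :=
  AlgebraicGeometry.IsOpenImmersion.lift (rangeOpen φ).ι φ.left (range_le φ)

theorem toRange_ι (φ : Y ⟶ Z) : toRange φ ≫ (rangeOpen φ).ι = φ.left :=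
  AlgebraicGeometry.IsOpenImmersion.lift_fac _ _ _

/-- The map to the image. -/
def toImage (φ : Y ⟶ Z) : Y ⟶ image φ :=
  Over.homMk (toRange φ) (by
    show toRange φ ≫ ((rangeOpen φ).ι ≫ Z.hom) = Y.hom
    rw [← Category.assoc, toRange_ι]
    exact Over.w φ) trivial

theorem toImage_ι (φ : Y ⟶ Z) : toImage φ ≫ imageι φ = φ := by
  ext
  exact toRange_ι φ

instance (φ : Y ⟶ Z) : Surjective (toImage φ).left := ⟨fun z => by
  obtain ⟨y, hy⟩ := z.2
  exact ⟨y, Subtype.ext ((congrArg (fun k : Y ⟶ Z => k.left y) (toImage_ι φ)).trans hy)⟩⟩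

/-- A point is in a clopen part iff its center is. -/
theorem exists_lift_clopenPart (U : Y.left.Opens) (hU : IsClosed (U : Set Y.left)) (a : Fib ξ Y)
    (h : center a ∈ U) : ∃ b, pmap (clopenPartι Y U hU) b = a :=
  exists_lift_of_mem_range _ _ ⟨⟨center a, h⟩, rfl⟩

theorem center_clopenPart_mem {U : Y.left.Opens} {hU : IsClosed (U : Set Y.left)} (b : Fib ξ (clopenPart Y U hU)) :
    center (pmap (clopenPartι Y U hU) b) ∈ U := by
  rw [center_pmap]
  exact (center b).2

section Limits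

variable {J : Type} [SmallCategory J] [FinCategory J] {D : J ⥤ FEt.Cat X} {c : Cone D}

omit [IsAlgClosed K] in
theorem fib_limit_ext (hc : IsLimit c) {a b : Fib ξ c.pt} (h : ∀ j, pmap (c.π.app j) a = pmap (c.π.app j) b) : a = b :=
  (isLimitOfPreserves (Over.forget FEt.prop.{u} ⊤ X) hc).hom_ext h

omit [IsAlgClosed K] in
theorem exists_fib_limit (hc : IsLimit c) (s : ∀ j, Fib ξ (D.obj j))
    (hs : ∀ {i j} (f : i ⟶ j), pmap (D.map f) (s i) = s j) : ∃ a : Fib ξ c.pt, ∀ j, pmap (c.π.app j) a = s j := by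
  let s' : Cone (D ⋙ Over.forget FEt.prop.{u} ⊤ X) :=
    ⟨CategoryTheory.Over.mk ξ, ⟨s, fun i j f => (Category.id_comp _).trans (hs f).symm⟩⟩
  exact ⟨(isLimitOfPreserves (Over.forget FEt.prop.{u} ⊤ X) hc).lift s', fun j =>
    (isLimitOfPreserves (Over.forget FEt.prop.{u} ⊤ X) hc).fac s' j⟩

end Limits

omit [IsAlgClosed K] in
theorem fib_prod_ext {a b : Fib ξ (Y ⨯ Z)} (h₁ : pmap prod.fst a = pmap prod.fst b)
    (h₂ : pmap prod.snd a = pmap prod.snd b) : a = b :=
  fib_limit_ext (prodIsProd Y Z) (by rintro ⟨⟨⟩⟩ <;> assumption)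

omit [IsAlgClosed K] in
theorem exists_fib_prod (a : Fib ξ Y) (b : Fib ξ Z) :
    ∃ c : Fib ξ (Y ⨯ Z), pmap prod.fst c = a ∧ pmap prod.snd c = b := by
  obtain ⟨c, hc⟩ := exists_fib_limit (prodIsProd Y Z) (fun j => match j with | ⟨.left⟩ => a | ⟨.right⟩ => b)
    (fun {i j} f => by
      obtain ⟨i⟩ := i; obtain ⟨j⟩ := j
      obtain rfl : i = j := Discrete.eq_of_hom f
      rw [Subsingleton.elim f (𝟙 _), CategoryTheory.Functor.map_id]
      exact pmap_id _)
  exact ⟨c, hc ⟨.left⟩, hc ⟨.right⟩⟩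

omit [IsAlgClosed K] in
theorem exists_fib_equalizer (f g : Y ⟶ Z) (a : Fib ξ Y) (h : pmap f a = pmap g a) :
    ∃ c : Fib ξ (equalizer f g), pmap (equalizer.ι f g) c = a := by
  obtain ⟨c, hc⟩ := exists_fib_limit (equalizerIsEqualizer f g)
    (fun j => match j with | .zero => a | .one => pmap f a)
    (by
      rintro _ _ (_ | _ | _)
      · exact rfl
      · exact h.symm
      · exact (congrArg (pmap · _) ((parallelPair f g).map_id _)).trans (pmap_id _))
  exact ⟨c, hc .zero⟩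

omit [Field K] [IsAlgClosed K] in
/-- Morphisms of covers are determined by geometric points. -/
theorem hom_ext {f g : Y ⟶ Z}
    (h : ∀ (K : Type u) [Field K] [IsAlgClosed K] (ξ : Spec (CommRingCat.of K) ⟶ X) (a : Fib ξ Y),
      pmap f a = pmap g a) : f = g := by
  haveI : IsIso (equalizer.ι f g) := isIso_of_pmap_bijective _ fun K _ _ ξ =>
    ⟨pmap_injective _, fun a => exists_fib_equalizer f g a (h K ξ a)⟩
  exact (cancel_epi (equalizer.ι f g)).1 (equalizer.condition f g)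

end Groth.Agent.FEtLib
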