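import Groth.Agent.FEtLib.HomBase

/-! Sections of affine schemes descend along morphisms with `f_* O = O`. -/

set_option autoImplicit false
universe u
open CategoryTheory CategoryTheory.Limits AlgebraicGeometry TopologicalSpace Opposite

noncomputable section

namespace Groth.Agent.FEtLib

variable {X S : Scheme.{u}} {f : X ⟶ S} (hf : ∀ U : S.Opens, Function.Bijective (f.app U))

include hf in
theorem bijective_appTop_restrict (V : S.Opens) : Function.Bijective (f ∣_ V).appTop := by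
  have h := morphismRestrict_app f V (⊤ : V.toScheme.Opens)
  have h1 : IsIso (f.app (V.ι ''ᵁ ⊤)) := (ConcreteCategory.isIso_iff_bijective _).2 (hf _)
  have hi : IsIso ((f ∣_ V).app ⊤) := by rw [h]; exact IsIso.comp_isIso' h1 (CategoryTheory.Functor.map_isIso X.presheaf _)
  have hb : Function.Bijective ((f ∣_ V).app ⊤) := ConcreteCategory.bijective_of_isIso _
  exact hb

include hf in
/-- Morphisms to an affine scheme descend from the preimage of an open. -/
theorem existsUnique_of_isAffine (V : S.Opens) {W : Scheme.{u}} [IsAffine W] (g : (f ⁻¹ᵁ V).toScheme ⟶ W) :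
    ∃! t : V.toScheme ⟶ W, (f ∣_ V) ≫ t = g := by
  haveI : IsIso (f ∣_ V).appTop := (ConcreteCategory.isIso_iff_bijective _).2 (bijective_appTop_restrict hf V)
  refine ⟨V.toScheme.toSpecΓ ≫ Spec.map (g.appTop ≫ inv (f ∣_ V).appTop) ≫ W.isoSpec.inv, ?_, fun t ht => ?_⟩
  · show (f ∣_ V) ≫ V.toScheme.toSpecΓ ≫ _ = g
    rw [← Category.assoc, Scheme.toSpecΓ_naturality, Category.assoc, ← Category.assoc (Spec.map _),
      ← Spec.map_comp, Category.assoc, IsIso.inv_hom_id, Category.comp_id, ← Category.assoc,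
      ← Scheme.toSpecΓ_naturality, Category.assoc]
    show g ≫ W.isoSpec.hom ≫ W.isoSpec.inv = g
    rw [Iso.hom_inv_id, Category.comp_id]
  · have h1 : t.appTop = g.appTop ≫ inv (f ∣_ V).appTop := by
      rw [← ht, Scheme.Hom.comp_appTop, Category.assoc, IsIso.hom_inv_id, Category.comp_id]
    rw [← h1, ← Category.assoc, ← Scheme.toSpecΓ_naturality, Category.assoc]
    show t = t ≫ W.isoSpec.hom ≫ W.isoSpec.inv
    rw [Iso.hom_inv_id, Category.comp_id]

include hf in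
theorem existsUnique_over_affine {W : Scheme.{u}} (w : W ⟶ S) [IsAffineHom w] (s : X ⟶ W) (hs : s ≫ w = f)
    (V : S.Opens) (hV : IsAffineOpen V) :
    ∃! t : V.toScheme ⟶ W, t ≫ w = V.ι ∧ (f ∣_ V) ≫ t = (f ⁻¹ᵁ V).ι ≫ s := by
  haveI : IsAffine (w ⁻¹ᵁ V).toScheme := hV.preimage w
  haveI : IsAffine V.toScheme := hV
  have hr : Set.range ((f ⁻¹ᵁ V).ι ≫ s) ⊆ Set.range (w ⁻¹ᵁ V).ι := by
    rw [Scheme.Opens.range_ι]
    rintro _ ⟨y, rfl⟩
    show w (((f ⁻¹ᵁ V).ι ≫ s) y) ∈ V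
    rw [← Scheme.Hom.comp_apply, Category.assoc, hs, Scheme.Hom.comp_apply]
    exact y.2
  let g := AlgebraicGeometry.IsOpenImmersion.lift (w ⁻¹ᵁ V).ι _ hr
  have hg : g ≫ (w ⁻¹ᵁ V).ι = (f ⁻¹ᵁ V).ι ≫ s := AlgebraicGeometry.IsOpenImmersion.lift_fac _ _ _
  obtain ⟨t, ht, htu⟩ := existsUnique_of_isAffine hf V g
  have htV : t ≫ (w ∣_ V) = 𝟙 _ := by
    refine (existsUnique_of_isAffine hf V (f ∣_ V)).unique ?_ (Category.comp_id _)
    show (f ∣_ V) ≫ t ≫ _ = f ∣_ V
    rw [← Category.assoc, show (f ∣_ V) ≫ t = g from ht, ← cancel_mono V.ι, Category.assoc, morphismRestrict_ι, ← Category.assoc,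
      hg, Category.assoc, hs, morphismRestrict_ι]
  refine ⟨t ≫ (w ⁻¹ᵁ V).ι, ⟨?_, ?_⟩, fun t' ⟨h1, h2⟩ => ?_⟩
  · rw [Category.assoc, ← morphismRestrict_ι, ← Category.assoc, htV, Category.id_comp]
  · rw [← Category.assoc, show (f ∣_ V) ≫ t = g from ht, hg]
  · have hr' : Set.range t' ⊆ Set.range (w ⁻¹ᵁ V).ι := by
      rw [Scheme.Opens.range_ι]
      rintro _ ⟨y, rfl⟩
      show w (t' y) ∈ V
      rw [← Scheme.Hom.comp_apply, h1]
      exact y.2
    rw [← htu (AlgebraicGeometry.IsOpenImmersion.lift (w ⁻¹ᵁ V).ι t' hr') (by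
      show (f ∣_ V) ≫ _ = g
      rw [← cancel_mono (w ⁻¹ᵁ V).ι, Category.assoc, AlgebraicGeometry.IsOpenImmersion.lift_fac, h2, hg]),
      AlgebraicGeometry.IsOpenImmersion.lift_fac]

include hf in
/-- Sections of affine schemes descend. -/
theorem exists_section_descent {W : Scheme.{u}} (w : W ⟶ S) [IsAffineHom w] (s : X ⟶ W) (hs : s ≫ w = f) :
    ∃ t : S ⟶ W, t ≫ w = 𝟙 S ∧ f ≫ t = s := by
  have hloc := fun V : S.affineOpens => existsUnique_over_affine hf w s hs V.1 V.2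
  choose g hg hgu using hloc
  let t : S ⟶ W := S.directedAffineCover.glueMorphismsOfLocallyDirected g fun {U V} h =>
    hgu U _ ⟨by
      show (S.homOfLE (leOfHom h) ≫ g V) ≫ w = U.1.ι
      rw [Category.assoc, (hg V).1, Scheme.homOfLE_ι], by
      show (f ∣_ U.1) ≫ S.homOfLE (leOfHom h) ≫ g V = (f ⁻¹ᵁ U.1).ι ≫ s
      have hle : f ⁻¹ᵁ U.1 ≤ f ⁻¹ᵁ V.1 := fun x hx => leOfHom h hx
      have : (f ∣_ U.1) ≫ S.homOfLE (leOfHom h) = X.homOfLE hle ≫ (f ∣_ V.1) := by
        rw [← cancel_mono V.1.ι, Category.assoc, Category.assoc, Scheme.homOfLE_ι, morphismRestrict_ι,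
          morphismRestrict_ι, Scheme.homOfLE_ι_assoc]
      rw [← Category.assoc, this, Category.assoc, (hg V).2, Scheme.homOfLE_ι_assoc]⟩
  have ht : ∀ V : S.affineOpens, V.1.ι ≫ t = g V := fun V =>
    Scheme.OpenCover.map_glueMorphismsOfLocallyDirected S.directedAffineCover g _ V
  refine ⟨t, Scheme.Cover.hom_ext S.directedAffineCover _ _ fun V => ?_, ?_⟩
  · show V.1.ι ≫ t ≫ w = V.1.ι ≫ 𝟙 S
    rw [← Category.assoc, ht, (hg V).1]
    exact (Category.comp_id _).symm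
  · refine Scheme.Cover.hom_ext (X.openCoverOfIsOpenCover (fun V : S.affineOpens => f ⁻¹ᵁ V.1) ?_) _ _ fun V => ?_
    · refine IsOpenCover.mk (eq_top_iff.2 fun x _ => ?_)
      obtain ⟨_, ⟨V, hV, rfl⟩, hy, -⟩ :=
        S.isBasis_affineOpens.exists_subset_of_mem_open (Set.mem_univ (f x)) isOpen_univ
      exact Opens.mem_iSup.2 ⟨⟨V, hV⟩, hy⟩
    · show (f ⁻¹ᵁ V.1).ι ≫ f ≫ t = (f ⁻¹ᵁ V.1).ι ≫ s
      rw [← Category.assoc, ← morphismRestrict_ι, Category.assoc, ht, (hg V).2]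

include hf in
theorem meetsClopens_of_bijective : MeetsClopens f := fun U hU ⟨x, hx⟩ => by
  by_contra h
  let U' : S.Opens := ⟨U, hU.2⟩
  have hE : ∀ z, z ∉ f ⁻¹ᵁ U' := fun z hz => h ⟨z, hz⟩
  haveI : Subsingleton Γ(X, f ⁻¹ᵁ U') := ⟨fun a b => TopCat.Sheaf.eq_of_locally_eq' X.sheaf
    (fun _ : PEmpty.{u + 1} => (⊥ : X.Opens)) (f ⁻¹ᵁ U') (fun i => i.elim) (fun z hz => (hE z hz).elim) a b fun i => i.elim⟩
  haveI : Subsingleton Γ(S, U') := ⟨fun a b => (hf U').1 (Subsingleton.elim _ _)⟩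
  exact not_subsingleton (S.presheaf.stalk x)
    (RingHom.codomain_trivial (S.presheaf.germ U' x hx).hom)

include hf in
theorem fullyFaithful_of_bijective : (FEt.restrict f).Full ∧ (FEt.restrict f).Faithful :=
  ⟨full_of_sections f fun W s hs => by
    let w : W.left ⟶ S := W.hom
    haveI : IsFinite w := W.prop.1
    exact exists_section_descent hf w s hs,
    faithful f (meetsClopens_of_bijective hf)⟩

end Groth.Agent.FEtLib
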