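import Groth.Agent.FEtLib.GeomConn
import Groth.Agent.GeomIrred.ClopenDescend

/-! Sections over an algebraic closure come from finite étale algebras over the field. -/

set_option autoImplicit false
universe u
open CategoryTheory CategoryTheory.Limits AlgebraicGeometry MorphismProperty Topology
open Groth.Agent.GeomIrred

noncomputable section

namespace Groth.Agent.FEtLib.FieldBase

variable (k : Type u) [Field k] {X : Scheme.{u}} (f : X ⟶ Spec (CommRingCat.of k))

/-- The cover of a field given by a finite separable extension. -/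
def specCover (L : Type u) [Field L] [Algebra k L] [FiniteDimensional k L] [Algebra.IsSeparable k L] :
    FEt.Cat (Spec (CommRingCat.of k)) :=
  haveI : Algebra.FormallyEtale k L := Algebra.FormallyEtale.of_isSeparable k L
  haveI : Algebra.Etale k L :=
    { formallyEtale := inferInstance, finitePresentation := Algebra.FinitePresentation.of_finiteType.1 inferInstance }
  Over.mk ⊤ (Spec.map (CommRingCat.ofHom (algebraMap k L)))
    ⟨(IsFinite.SpecMap_iff _).2 (RingHom.finite_algebraMap.2 inferInstance),
      (HasRingHomProperty.Spec_iff (P := @Etale)).2 (RingHom.etale_algebraMap.2 inferInstance)⟩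

theorem trans_fst {L M : Type u} [Field L] [Field M] [Algebra k L] [Algebra k M] (a : L →ₐ[k] M) :
    GeomIrred.trans f a ≫ pullback.fst f _ = pullback.fst f _ :=
  (pullback.lift_fst _ _ _).trans (Category.comp_id _)

theorem trans_snd {L M : Type u} [Field L] [Field M] [Algebra k L] [Algebra k M] (a : L →ₐ[k] M) :
    GeomIrred.trans f a ≫ pullback.snd f _ = pullback.snd f _ ≫ Spec.map (CommRingCat.ofHom a.toRingHom) :=
  pullback.lift_snd _ _ _

theorem lift_trans_eq {U : Scheme.{u}} (u : U ⟶ X) {L M : Type u} [Field L] [Field M] [Algebra k L] [Algebra k M]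
    (a : L →ₐ[k] M) {Z : Scheme.{u}} (η : Z ⟶ bcs f M) (bl : Z ⟶ pullback u (pullback.fst f _))
    (hb : bl ≫ pullback.snd u (pullback.fst f _) = η ≫ GeomIrred.trans f a)
    (w : (bl ≫ pullback.fst u (pullback.fst f _)) ≫ u = η ≫ pullback.fst f _) :
    (pullback.lift (bl ≫ pullback.fst u (pullback.fst f _)) η w ≫ (pullbackRightPullbackFstIso f _ u).hom) ≫
      GeomIrred.trans (u ≫ f) a =
    bl ≫ (pullbackRightPullbackFstIso f (Spec.map (CommRingCat.ofHom (algebraMap k L))) u).hom := by
  apply pullback.hom_ext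
  · rw [Category.assoc, Category.assoc, Category.assoc, trans_fst, pullbackRightPullbackFstIso_hom_fst,
      pullback.lift_fst, pullbackRightPullbackFstIso_hom_fst]
  · rw [Category.assoc, Category.assoc, Category.assoc, trans_snd, pullbackRightPullbackFstIso_hom_snd_assoc,
      pullback.lift_snd_assoc, pullbackRightPullbackFstIso_hom_snd, reassoc_of% hb, trans_snd]

variable [CompactSpace X]

/-- A section over the algebraic closure gives a morphism from the base change of a field extension. -/
theorem exists_hom_of_section (U : FEt.Cat X)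
    (σ : pullback f (ξ k) ⟶ U.left) (hσ : σ ≫ U.hom = pullback.fst f (ξ k)) :
    ∃ (L : Type u) (_ : Field L) (_ : Algebra k L) (_ : FiniteDimensional k L) (_ : Algebra.IsSeparable k L)
      (e : (FEt.restrict f).obj (specCover k L) ⟶ U), Set.range σ ⊆ Set.range e.left := by
  let u : U.left ⟶ X := U.hom
  haveI : IsFinite u := U.prop.1
  haveI : CompactSpace U.left := QuasiCompact.compactSpace_of_compactSpace u
  let g : U.left ⟶ Spec (CommRingCat.of k) := u ≫ f
  let rb : pullback f (ξ k) ⟶ X := pullback.fst f (ξ k)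
  let mm : pullback f (ξ k) ⟶ pullback u rb := pullback.lift σ (𝟙 _) (hσ.trans (Category.id_comp _).symm)
  let m : one (pullback f (ξ k)) ⟶ (FEt.restrict rb).obj U := Over.homMk mm (pullback.lift_snd _ _ _) trivial
  have hm : IsClopen (Set.range mm) := ⟨m.left.isClosedMap.isClosed_range, m.left.isOpenMap.isOpen_range⟩
  let eb : pullback u rb ≅ pullback g (ξ k) := pullbackRightPullbackFstIso f (ξ k) u
  obtain ⟨L, _, _, hfin, hsep, a, A, hA, hAC⟩ :=
    exists_separable_clopen g (eb.inv ⁻¹' Set.range mm) (hm.preimage eb.inv.continuous)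
  refine ⟨L, inferInstance, inferInstance, hfin, hsep, ?_⟩
  let bL : Spec (CommRingCat.of L) ⟶ Spec (CommRingCat.of k) := Spec.map (CommRingCat.ofHom (algebraMap k L))
  let rL : pullback f bL ⟶ X := pullback.fst f bL
  let t : pullback f (ξ k) ⟶ pullback f bL := trans f a
  have ht : t ≫ rL = rb := (pullback.lift_fst _ _ _).trans (Category.comp_id _)
  have hts : t ≫ pullback.snd f bL = pullback.snd f (ξ k) ≫ Spec.map (CommRingCat.ofHom a.toRingHom) :=
    pullback.lift_snd _ _ _
  haveI : Surjective t := (trans_props f a).1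
  let eL : pullback u rL ≅ pullback g bL := pullbackRightPullbackFstIso f bL u
  let W : FEt.Cat (pullback f bL) := (FEt.restrict rL).obj U
  let O : W.left.Opens := ⟨eL.hom ⁻¹' A, hA.2.preimage eL.hom.continuous⟩
  have hO : IsClosed (O : Set W.left) := hA.1.preimage eL.hom.continuous
  let s : pullback f (ξ k) ⟶ pullback u rL := pullback.lift σ t (hσ.trans ht.symm)
  have key : ∀ (K : Type u) [Field K] [IsAlgClosed K] (η : Spec (CommRingCat.of K) ⟶ pullback f (ξ k))
      (b : Fib (η ≫ t) W), center b ∈ O ↔ b.left = η ≫ s := by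
    intro K _ _ η b
    let bl : Spec (CommRingCat.of K) ⟶ pullback u rL := b.left
    have hb : bl ≫ pullback.snd u rL = η ≫ t := fib_w b
    let cl : Spec (CommRingCat.of K) ⟶ pullback u rb := pullback.lift (bl ≫ pullback.fst u rL) η (by
      rw [Category.assoc, pullback.condition, ← Category.assoc, hb, Category.assoc, ht])
    let c : Fib η ((FEt.restrict rb).obj U) := fibMk cl (pullback.lift_snd _ _ _)
    have hmor : (cl ≫ eb.hom) ≫ GeomIrred.trans g a = bl ≫ eL.hom := lift_trans_eq k f u a η bl hb _
    have hmor' : GeomIrred.trans g a (eb.hom (center c)) = eL.hom (center b) := by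
      have := congrArg (fun k : Spec (CommRingCat.of K) ⟶ _ => k (IsLocalRing.closedPoint K)) hmor
      rw [Scheme.Hom.comp_apply, Scheme.Hom.comp_apply, Scheme.Hom.comp_apply] at this
      exact this
    have h1 : center b ∈ O ↔ center c ∈ Set.range m.left := by
      show eL.hom (center b) ∈ A ↔ _
      rw [← hmor']
      show eb.hom (center c) ∈ trans g a ⁻¹' A ↔ _
      rw [hAC]
      show eb.inv (eb.hom (center c)) ∈ Set.range mm ↔ _
      rw [← Scheme.Hom.comp_apply, Iso.hom_inv_id]
      rfl
    rw [h1]
    refine ⟨fun h => ?_, fun h => ?_⟩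
    · obtain ⟨o, ho⟩ := exists_lift_of_mem_range m c h
      obtain rfl : o = fibMk η (Category.comp_id η) := fib_one_subsingleton _ _
      have ho' : η ≫ mm = cl := congrArg (fun c : Fib η ((FEt.restrict rb).obj U) => c.left) ho
      show bl = η ≫ s
      apply pullback.hom_ext
      · have h1 : cl ≫ pullback.fst u rb = bl ≫ pullback.fst u rL := pullback.lift_fst _ _ _
        rw [← h1, ← ho', Category.assoc, Category.assoc, pullback.lift_fst, pullback.lift_fst]
      · rw [hb, Category.assoc, pullback.lift_snd]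
    · have h' : bl = η ≫ s := h
      have ho' : η ≫ mm = cl := by
        apply pullback.hom_ext
        · rw [pullback.lift_fst, h', Category.assoc, Category.assoc, pullback.lift_fst, pullback.lift_fst]
        · rw [pullback.lift_snd, Category.assoc, pullback.lift_snd, Category.comp_id]
      exact ⟨η (IsLocalRing.closedPoint K), by
        show mm _ = cl _
        rw [← ho']; rfl⟩
  let ι := clopenPartι W O hO
  have hsw : ∀ (K : Type u) [Field K] (η : Spec (CommRingCat.of K) ⟶ pullback f (ξ k)), (η ≫ s) ≫ W.hom = η ≫ t :=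
    fun K _ η => (Category.assoc _ _ _).trans (congrArg (η ≫ ·) (pullback.lift_snd _ _ _))
  haveI : IsIso (ι ≫ toOne W) := isIso_of_bijective_above t (meetsClopens_of_denseRange t t.surjective.denseRange) _
    fun K _ _ η => by
      refine ⟨fun e e' _ => pmap_injective ι (fib_ext ?_), fun o => ?_⟩
      · rw [(key K η (pmap ι e)).1 (center_clopenPart_mem e), (key K η (pmap ι e')).1 (center_clopenPart_mem e')]
      · obtain ⟨e, -⟩ := exists_lift_clopenPart O hO (fibMk (η ≫ s) (hsw K η) : Fib (η ≫ t) W)
          ((key K η (fibMk (η ≫ s) (hsw K η))).2 rfl)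
        exact ⟨e, fib_one_subsingleton _ _⟩
  let sec : one (pullback f bL) ⟶ W := inv (ι ≫ toOne W) ≫ ι
  let secl : pullback f bL ⟶ pullback u rL := sec.left
  have hsecl : secl ≫ pullback.snd u rL = 𝟙 _ := Over.w sec
  let e₀ : pullback f bL ⟶ U.left := secl ≫ pullback.fst u rL
  have he₀ : e₀ ≫ u = rL := by
    rw [Category.assoc, pullback.condition, reassoc_of% hsecl]
  refine ⟨Over.homMk ((pullbackSymmetry _ _).hom ≫ e₀)
    ((Category.assoc _ _ _).trans ((congrArg (_ ≫ ·) he₀).trans (pullbackSymmetry_hom_comp_fst _ _))) trivial, ?_⟩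
  rintro _ ⟨x, rfl⟩
  obtain ⟨K, _, _, η, hη⟩ := Groth.Agent.QuotLib.exists_geom_point x
  let o : Fib (η ≫ t) (one (pullback f bL)) := fibMk (η ≫ t) (Category.comp_id _)
  have hmem : center (pmap sec o) ∈ O := by
    rw [pmap_comp]
    exact center_clopenPart_mem (pmap (inv (ι ≫ toOne W)) o)
  have h2 : (η ≫ t) ≫ secl = η ≫ s := (key K η (pmap sec o)).1 hmem
  have h3 : (η ≫ t) ≫ e₀ = η ≫ σ := by
    rw [← Category.assoc (η ≫ t) secl (pullback.fst u rL), h2, Category.assoc, pullback.lift_fst]
  let w : pullback f bL ⟶ pullback bL f := (pullbackSymmetry f bL).hom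
  refine ⟨w (t x), ?_⟩
  show ((pullbackSymmetry bL f).hom ≫ e₀) (w (t x)) = σ x
  rw [← Scheme.Hom.comp_apply w, ← Category.assoc, show w ≫ (pullbackSymmetry bL f).hom = 𝟙 _ by
    apply pullback.hom_ext <;> simp [w], Category.id_comp, ← hη]
  have h4 := congrArg (fun k : Spec (CommRingCat.of K) ⟶ U.left => k (IsLocalRing.closedPoint K)) h3
  rw [Scheme.Hom.comp_apply, Scheme.Hom.comp_apply, Scheme.Hom.comp_apply] at h4
  exact h4

end Groth.Agent.FEtLib.FieldBase
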